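/-
The permutation parity tool (helper74, for S3147).
-/
import Mathlib.GroupTheory.Perm.Cycle.Type
import Mathlib.GroupTheory.Sylow
import Mathlib.GroupTheory.GroupAction.Quotient
import Mathlib.GroupTheory.IndexNormal
import Mathlib.Tactic

set_option autoImplicit false

namespace Cfsg.Agent.Lib.InvCentS7.Tools

open Equiv Equiv.Perm

variable {G : Type*} [Group G] [Finite G]

/-- A finite group with no subgroup of index two kills every homomorphism to `ℤˣ`. -/
theorem hom_units_eq_one (hG : ¬ ∃ H : Subgroup G, H.index = 2) (φ : G →* ℤˣ) (g : G) :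
    φ g = 1 := by
  by_contra h
  refine hG ⟨φ.ker, ?_⟩
  have hg : φ g = -1 := (Int.units_eq_one_or _).resolve_left h
  have hsurj : φ.range = ⊤ := by
    rw [eq_top_iff]
    intro u _
    rcases Int.units_eq_one_or u with rfl | rfl
    · exact one_mem _
    · exact ⟨g, hg⟩
  rw [Subgroup.index_ker, hsurj, Subgroup.card_top]
  simp

/-- An involutory permutation with even sign moves a number of points divisible by four. -/
theorem four_dvd_support {α : Type*} [Fintype α] [DecidableEq α] (σ : Perm α) (h : σ * σ = 1)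
    (hs : Equiv.Perm.sign σ = 1) : 4 ∣ σ.support.card := by
  by_cases h1 : σ = 1
  · simp [h1]
  have hord : orderOf σ = 2 := orderOf_eq_prime (by rw [sq, h]) h1
  obtain ⟨n, hn⟩ := Equiv.Perm.cycleType_prime_order (σ := σ) (by rw [hord]; exact Nat.prime_two)
  rw [hord] at hn
  have hsum := σ.sum_cycleType
  rw [hn, Multiset.sum_replicate, smul_eq_mul] at hsum
  rw [Equiv.Perm.sign_of_cycleType, hn] at hs
  simp only [Multiset.sum_replicate, smul_eq_mul, Multiset.card_replicate] at hs
  have hev : Even ((n + 1) * 2 + (n + 1)) := by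
    rcases Nat.even_or_odd ((n + 1) * 2 + (n + 1)) with he | ho
    · exact he
    · rw [ho.neg_one_pow] at hs; exact absurd hs (by decide)
  rw [Nat.even_iff] at hev
  omega

/-- **Parity tool.**  In a finite group without a subgroup of index two, an element with
`t * t = 1` fixes a number of points congruent mod 4 to the number of all points. -/
theorem parity (hG : ¬ ∃ H : Subgroup G, H.index = 2) {Y : Type*} [Finite Y]
    (φ : G →* Perm Y) {t : G} (ht : t * t = 1) :
    Nat.card Y ≡ Nat.card {y : Y // φ t y = y} [MOD 4] := by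
  classical
  haveI := Fintype.ofFinite Y
  have h4 := four_dvd_support (φ t) (by rw [← map_mul, ht, map_one])
    (hom_units_eq_one hG (Equiv.Perm.sign.comp φ) t)
  rw [Nat.card_eq_fintype_card, Nat.card_eq_fintype_card, Fintype.card_subtype]
  have hc : (φ t).support = Finset.univ.filter fun y => ¬ φ t y = y := by
    ext y; simp [Equiv.Perm.mem_support]
  have hsum := Finset.card_filter_add_card_filter_not (s := (Finset.univ : Finset Y))
    (p := fun y => φ t y = y)
  rw [← hc, Finset.card_univ] at hsum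
  obtain ⟨k, hk⟩ := h4
  unfold Nat.ModEq
  omega

/-- Fixed cosets are counted by the elements conjugating `t` into the subgroup. -/
theorem card_fixed_coset (D : Subgroup G) (t : G) :
    Nat.card {y : G ⧸ D // t • y = y} * Nat.card D = Nat.card {g : G // g⁻¹ * t * g ∈ D} := by
  have e := QuotientGroup.preimageMkEquivSubgroupProdSet D {y : G ⧸ D | t • y = y}
  have h := Nat.card_congr e
  rw [Nat.card_prod] at h
  rw [mul_comm, ← show Nat.card {y : G ⧸ D | t • y = y} = Nat.card {y : G ⧸ D // t • y = y} from rfl,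
    ← h]
  refine Nat.card_congr (Equiv.subtypeEquivRight fun g => ?_)
  simp only [Set.mem_preimage, Set.mem_ofPred_eq, MulAction.Quotient.smul_coe, smul_eq_mul]
  rw [eq_comm, QuotientGroup.eq, mul_assoc]

/-- The elements conjugating `t` into a set: one coset of the centralizer for each conjugate. -/
theorem card_conj_into (t : G) (P : G → Prop) :
    Nat.card {g : G // P (g⁻¹ * t * g)} =
      Nat.card {u : G // IsConj t u ∧ P u} * Nat.card (Subgroup.centralizer ({t} : Set G)) := by
  classical
  let f : {g : G // P (g⁻¹ * t * g)} → {u : G // IsConj t u ∧ P u} :=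
    fun g => ⟨g.1⁻¹ * t * g.1, isConj_iff.mpr ⟨g.1⁻¹, by rw [inv_inv]⟩, g.2⟩
  have hfib : ∀ u, Nat.card {g // f g = u} =
      Nat.card (Subgroup.centralizer ({t} : Set G)) := by
    intro u
    obtain ⟨c, hc⟩ := isConj_iff.mp u.2.1
    have key : ∀ g : G, g⁻¹ * t * g = u.1 ↔ g * c ∈ Subgroup.centralizer ({t} : Set G) := by
      intro g
      rw [Subgroup.mem_centralizer_singleton_iff, ← hc]
      constructor <;> intro h
      · calc g * c * t = g * (c * t * c⁻¹) * c := by group
          _ = g * (g⁻¹ * t * g) * c := by rw [h]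
          _ = t * (g * c) := by group
      · calc g⁻¹ * t * g = g⁻¹ * (t * (g * c)) * c⁻¹ := by group
          _ = g⁻¹ * (g * c * t) * c⁻¹ := by rw [h]
          _ = c * t * c⁻¹ := by group
    refine Nat.card_congr
      { toFun := fun g => ⟨g.1.1 * c, (key _).mp (congrArg Subtype.val g.2)⟩
        invFun := fun z => ⟨⟨z.1 * c⁻¹, ?_⟩, Subtype.ext ?_⟩
        left_inv := fun g => by
          apply Subtype.ext; apply Subtype.ext; simp
        right_inv := fun z => by
          apply Subtype.ext; simp }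
    · have := (key (z.1 * c⁻¹)).mpr (by simpa using z.2)
      rw [this]; exact u.2.2
    · exact (key (z.1 * c⁻¹)).mpr (by simpa using z.2)
  haveI := Fintype.ofFinite {u : G // IsConj t u ∧ P u}
  rw [Nat.card_congr (Equiv.sigmaFiberEquiv f).symm, Nat.card_sigma,
    Finset.sum_congr rfl (fun u _ => hfib u), Finset.sum_const, Finset.card_univ, smul_eq_mul,
    ← Nat.card_eq_fintype_card]

/-- Parity on the cosets of a subgroup `D` of the centralizer of `t`. -/
theorem parity_coset (hG : ¬ ∃ H : Subgroup G, H.index = 2) {t : G} (ht : t * t = 1)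
    {D : Subgroup G} (hD : D ≤ Subgroup.centralizer ({t} : Set G)) :
    Nat.card {u : G // IsConj t u} * D.relIndex (Subgroup.centralizer ({t} : Set G)) ≡
      Nat.card {u : G // IsConj t u ∧ u ∈ D} * D.relIndex (Subgroup.centralizer ({t} : Set G))
        [MOD 4] := by
  set C := Subgroup.centralizer ({t} : Set G) with hC
  set i := D.relIndex C with hi
  have hiD : i * Nat.card D = Nat.card C := by
    rw [hi, Subgroup.relIndex, ← Subgroup.index_mul_card (D.subgroupOf C)]
    congr 1
    exact (Nat.card_congr (Subgroup.subgroupOfEquivOfLe hD).toEquiv).symm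
  have hDpos : 0 < Nat.card D := Nat.card_pos
  have hA : D.index = Nat.card {u : G // IsConj t u} * i := by
    have h1 := card_conj_into t (fun _ => True)
    rw [← hC] at h1
    have h2 : Nat.card {g : G // True} = Nat.card G := Nat.card_congr (Equiv.subtypeUnivEquiv fun _ => trivial)
    have h3 : Nat.card {u : G // IsConj t u ∧ True} = Nat.card {u : G // IsConj t u} :=
      Nat.card_congr (Equiv.subtypeEquivRight fun _ => and_iff_left trivial)
    rw [h2, h3, ← Subgroup.index_mul_card D, ← hiD, ← mul_assoc] at h1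
    exact mul_right_cancel₀ (Nat.pos_iff_ne_zero.mp hDpos) h1
  have hB : Nat.card {y : G ⧸ D // t • y = y} = Nat.card {u : G // IsConj t u ∧ u ∈ D} * i := by
    have h1 := card_fixed_coset D t
    rw [card_conj_into t (fun x => x ∈ D), ← hC, ← hiD, ← mul_assoc] at h1
    exact mul_right_cancel₀ (Nat.pos_iff_ne_zero.mp hDpos) h1
  have hp := parity hG (MulAction.toPermHom G (G ⧸ D)) ht
  rw [show Nat.card {y : G ⧸ D // MulAction.toPermHom G (G ⧸ D) t y = y} =
    Nat.card {y : G ⧸ D // t • y = y} from rfl, hB, ← Subgroup.index_eq_card, hA] at hp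
  exact hp

/-- A group of order `2 * |T|` above a `2`-subgroup `T` when `T` is not a Sylow subgroup. -/
theorem exists_above {T : Subgroup G} {k : ℕ} (hT : Nat.card T = 2 ^ k)
    (hdvd : 2 ^ (k + 1) ∣ Nat.card G) :
    ∃ K : Subgroup G, T ≤ K ∧ Nat.card K = 2 ^ (k + 1) ∧ K ≤ Subgroup.normalizer (T : Set G) := by
  haveI : Fact (Nat.Prime 2) := ⟨Nat.prime_two⟩
  obtain ⟨K, hK, hTK⟩ := Sylow.exists_subgroup_card_pow_succ hdvd hT
  refine ⟨K, hTK, hK, ?_⟩
  have hidx : (T.subgroupOf K).index = 2 := by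
    have h := Subgroup.index_mul_card (T.subgroupOf K)
    rw [Nat.card_congr (Subgroup.subgroupOfEquivOfLe hTK).toEquiv, hT, hK, pow_succ'] at h
    exact mul_right_cancel₀ (pow_ne_zero k (by norm_num)) h
  haveI := Subgroup.normal_of_index_eq_two hidx
  exact (Subgroup.normal_subgroupOf_iff_le_normalizer hTK).mp inferInstance

/-- Sylow conjugation inside a centralizer: a `2`-subgroup `T` of `C(t)` of full `2`-part
which centralizes a conjugate `u` of `t` is normalised by an element moving `t` to `u`. -/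
theorem exists_normalizing {T : Subgroup G} {t u : G} {k : ℕ} (hT : Nat.card T = 2 ^ k)
    (hfull : ¬ 2 ^ (k + 1) ∣ Nat.card (Subgroup.centralizer ({t} : Set G)))
    (hTt : T ≤ Subgroup.centralizer ({t} : Set G)) (hu : IsConj t u)
    (hTu : T ≤ Subgroup.centralizer ({u} : Set G)) :
    ∃ n : G, n * t * n⁻¹ = u ∧ ∀ x, x ∈ T ↔ n * x * n⁻¹ ∈ T := by
  haveI : Fact (Nat.Prime 2) := ⟨Nat.prime_two⟩
  obtain ⟨g, hg⟩ := isConj_iff.mp hu
  set C := Subgroup.centralizer ({t} : Set G) with hC
  set Q := T.map (MulAut.conj g⁻¹).toMonoidHom with hQ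
  have hQC : Q ≤ C := by
    rintro _ ⟨x, hx, rfl⟩
    have hxu := Subgroup.mem_centralizer_singleton_iff.mp (hTu hx)
    rw [hC, Subgroup.mem_centralizer_singleton_iff]
    show g⁻¹ * x * g⁻¹⁻¹ * t = t * (g⁻¹ * x * g⁻¹⁻¹)
    rw [inv_inv, show t = g⁻¹ * u * g by rw [← hg]; group]
    calc g⁻¹ * x * g * (g⁻¹ * u * g) = g⁻¹ * (x * u) * g := by group
      _ = g⁻¹ * (u * x) * g := by rw [hxu]
      _ = g⁻¹ * u * g * (g⁻¹ * x * g) := by group
  have hQcard : Nat.card Q = 2 ^ k := by
    rw [hQ, ← Nat.card_congr (T.equivMapOfInjective _ (MulAut.conj g⁻¹).injective).toEquiv, hT]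
  have hC0 : Nat.card C ≠ 0 := Nat.card_pos.ne'
  have hfac : (Nat.card C).factorization 2 = k := by
    have h1 : 2 ^ k ∣ Nat.card C := hT ▸ Subgroup.card_dvd_of_le hTt
    have h2 := (Nat.prime_two.pow_dvd_iff_le_factorization hC0).mp h1
    by_contra hne
    exact hfull ((Nat.prime_two.pow_dvd_iff_le_factorization hC0).mpr (by omega))
  let P1 : Sylow 2 C := Sylow.ofCard (T.subgroupOf C) (by
    rw [Nat.card_congr (Subgroup.subgroupOfEquivOfLe hTt).toEquiv, hT, hfac])
  let P2 : Sylow 2 C := Sylow.ofCard (Q.subgroupOf C) (by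
    rw [Nat.card_congr (Subgroup.subgroupOfEquivOfLe hQC).toEquiv, hQcard, hfac])
  obtain ⟨c, hc⟩ := MulAction.exists_smul_eq C P2 P1
  have hmem : ∀ x ∈ T, (c : G) * (g⁻¹ * x * g) * (c : G)⁻¹ ∈ T := by
    intro x hx
    have hq : g⁻¹ * x * g ∈ Q := ⟨x, hx, by simp⟩
    have h2 : (⟨_, hQC hq⟩ : C) ∈ (P2 : Subgroup C) := by
      show (⟨_, hQC hq⟩ : C) ∈ Q.subgroupOf C
      exact hq
    have h3 : c * ⟨_, hQC hq⟩ * c⁻¹ ∈ ((c • P2 : Sylow 2 C) : Subgroup C) := by
      rw [Sylow.coe_subgroup_smul]
      exact ⟨_, h2, rfl⟩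
    rw [hc] at h3
    exact h3
  set m := (c : G) * g⁻¹ with hm
  have hmem' : ∀ x ∈ T, m * x * m⁻¹ ∈ T := fun x hx => by
    have := hmem x hx
    rw [hm]
    have e : (c : G) * g⁻¹ * x * ((c : G) * g⁻¹)⁻¹ = (c : G) * (g⁻¹ * x * g) * (c : G)⁻¹ := by group
    rwa [e]
  have hiff : ∀ x, x ∈ T ↔ m * x * m⁻¹ ∈ T := by
    intro x
    refine ⟨hmem' x, fun h => ?_⟩
    haveI := Fintype.ofFinite T
    let F : T → T := fun y => ⟨m * y.1 * m⁻¹, hmem' y.1 y.2⟩
    have hinj : Function.Injective F := fun a b e => by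
      have := congrArg Subtype.val e
      exact Subtype.ext (mul_left_cancel (mul_right_cancel this))
    obtain ⟨y, hy⟩ := (Finite.injective_iff_surjective.mp hinj) ⟨_, h⟩
    have := congrArg Subtype.val hy
    rw [← mul_left_cancel (mul_right_cancel this)]
    exact y.2
  refine ⟨m⁻¹, ?_, fun x => ?_⟩
  · have hct : (c : G) * t = t * c := Subgroup.mem_centralizer_singleton_iff.mp c.2
    rw [← hg, hm]
    calc ((c : G) * g⁻¹)⁻¹ * t * ((c : G) * g⁻¹)⁻¹⁻¹
        = g * ((c : G)⁻¹ * (t * c)) * g⁻¹ := by group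
      _ = g * ((c : G)⁻¹ * (c * t)) * g⁻¹ := by rw [hct]
      _ = g * t * g⁻¹ := by group
  · rw [hiff (m⁻¹ * x * m⁻¹⁻¹), show m * (m⁻¹ * x * m⁻¹⁻¹) * m⁻¹ = x by group]

/-- Subgroups of order `2 ^ k`, the full `2`-part of `|G|`, are conjugate. -/
theorem conj_of_card {A B : Subgroup G} {k : ℕ} (hA : Nat.card A = 2 ^ k)
    (hB : Nat.card B = 2 ^ k) (hfull : ¬ 2 ^ (k + 1) ∣ Nat.card G) :
    ∃ g : G, ∀ x ∈ A, g * x * g⁻¹ ∈ B := by
  haveI : Fact (Nat.Prime 2) := ⟨Nat.prime_two⟩
  have hG0 : Nat.card G ≠ 0 := Nat.card_pos.ne'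
  have hfac : (Nat.card G).factorization 2 = k := by
    have h1 : 2 ^ k ∣ Nat.card G := hA ▸ Subgroup.card_subgroup_dvd_card A
    have h2 := (Nat.prime_two.pow_dvd_iff_le_factorization hG0).mp h1
    by_contra hne
    exact hfull ((Nat.prime_two.pow_dvd_iff_le_factorization hG0).mpr (by omega))
  let P1 : Sylow 2 G := Sylow.ofCard A (by rw [hA, hfac])
  let P2 : Sylow 2 G := Sylow.ofCard B (by rw [hB, hfac])
  obtain ⟨g, hg⟩ := MulAction.exists_smul_eq G P1 P2
  refine ⟨g, fun x hx => ?_⟩
  have h3 : g * x * g⁻¹ ∈ ((g • P1 : Sylow 2 G) : Subgroup G) := by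
    rw [Sylow.coe_subgroup_smul]
    exact ⟨x, hx, rfl⟩
  rw [hg] at h3
  exact h3

/-- **Parity on unordered pairs.**  `τ` is a fixed-point-free involution of `O` commuting with
the action; the pairs `{o, τ o}` are permuted. -/
theorem parity_pairs (hG : ¬ ∃ H : Subgroup G, H.index = 2) {O : Type*} [Finite O]
    (φ : G →* Perm O) (τ : Perm O) (hτ : ∀ o, τ (τ o) = o) (hfix : ∀ o, τ o ≠ o)
    (hcomm : ∀ g o, φ g (τ o) = τ (φ g o)) {t : G} (ht : t * t = 1) :
    Nat.card O ≡ Nat.card {o : O // φ t o = o ∨ φ t o = τ o} [MOD 8] := by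
  classical
  let S : Setoid O := ⟨fun o o' => o' = o ∨ o' = τ o,
    ⟨fun _ => Or.inl rfl,
      by rintro a b (h | h)
         · exact Or.inl h.symm
         · exact Or.inr (by rw [h, hτ]),
      by rintro a b c (h | h) (h' | h') <;> subst h h'
         · exact Or.inl rfl
         · exact Or.inr rfl
         · exact Or.inr rfl
         · exact Or.inl (hτ a)⟩⟩
  have hwd : ∀ g, ∀ a b, S.r a b → S.r (φ g a) (φ g b) := by
    rintro g a b (h | h) <;> subst h
    · exact Or.inl rfl
    · exact Or.inr (hcomm g a)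
  let act : G → Quotient S → Quotient S := fun g => Quotient.map (φ g) (hwd g)
  have act_mk : ∀ g o, act g (Quotient.mk S o) = Quotient.mk S (φ g o) := fun _ _ => rfl
  let ψ : G →* Perm (Quotient S) := MonoidHom.mk'
    (fun g => ⟨act g, act g⁻¹,
      Quotient.ind fun o => by
        rw [act_mk, act_mk, ← Equiv.Perm.mul_apply, ← map_mul]
        simp,
      Quotient.ind fun o => by
        rw [act_mk, act_mk, ← Equiv.Perm.mul_apply, ← map_mul]
        simp⟩)
    fun a b => Equiv.ext <| Quotient.ind fun o => by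
      simp only [Equiv.Perm.coe_mul, Function.comp_apply, Equiv.coe_fn_mk]
      rw [act_mk, act_mk, act_mk, map_mul, Equiv.Perm.mul_apply]
  have hcount : ∀ P : Quotient S → Prop,
      Nat.card {o // P (Quotient.mk S o)} = 2 * Nat.card {y // P y} := by
    intro P
    have h2 : 2 * Nat.card {y // P y} = Nat.card (Bool × {y // P y}) := by simp [Nat.card_prod]
    rw [h2]
    let f : Bool × {y // P y} → {o // P (Quotient.mk S o)} := fun p =>
      ⟨if p.1 then τ p.2.1.out else p.2.1.out, by
        have e : Quotient.mk S (if p.1 then τ p.2.1.out else p.2.1.out) = p.2.1 := by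
          refine Eq.trans (Quotient.sound ?_) (Quotient.out_eq _)
          cases p.1
          · exact Or.inl rfl
          · exact Or.inr (hτ _).symm
        rw [e]; exact p.2.2⟩
    refine (Nat.card_congr (Equiv.ofBijective f ⟨?_, ?_⟩)).symm
    · rintro ⟨i, y⟩ ⟨j, y'⟩ h
      have h' : (if i then τ y.1.out else y.1.out) = if j then τ y'.1.out else y'.1.out :=
        congrArg Subtype.val h
      have hy : y = y' := by
        apply Subtype.ext
        rw [← Quotient.out_eq y.1, ← Quotient.out_eq y'.1]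
        apply Quotient.sound
        cases i <;> cases j <;> simp only [Bool.false_eq_true, if_false, if_true] at h'
        · exact Or.inl h'.symm
        · exact Or.inr (by rw [h', hτ])
        · exact Or.inr h'.symm
        · exact Or.inl (τ.injective h').symm
      subst hy
      cases i <;> cases j <;> simp at h' ⊢
      · exact hfix _ h'.symm
      · exact hfix _ h'
    · rintro ⟨o, ho⟩
      have ho' : S.r (Quotient.mk S o).out o := Quotient.exact (Quotient.out_eq _)
      rcases ho' with h | h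
      · exact ⟨(false, ⟨_, ho⟩), Subtype.ext h.symm⟩
      · exact ⟨(true, ⟨_, ho⟩), Subtype.ext h.symm⟩
  have h1 := hcount fun _ => True
  rw [Nat.card_congr (Equiv.subtypeUnivEquiv (α := O) fun _ => trivial),
    Nat.card_congr (Equiv.subtypeUnivEquiv (α := Quotient S) fun _ => trivial)] at h1
  have h2 := hcount fun y => ψ t y = y
  have h3 : Nat.card {o : O // φ t o = o ∨ φ t o = τ o} =
      Nat.card {o // ψ t (Quotient.mk S o) = Quotient.mk S o} := by
    refine Nat.card_congr (Equiv.subtypeEquivRight fun o => ?_)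
    show _ ↔ Quotient.mk S (φ t o) = Quotient.mk S o
    constructor
    · rintro (h | h)
      · rw [h]
      · exact Quotient.sound (Or.inr (by rw [h, hτ]))
    · intro h
      rcases (Quotient.exact h : S.r (φ t o) o) with e | e
      · exact Or.inl e.symm
      · exact Or.inr (by conv_rhs => rw [e]
                         rw [hτ])
  have hp := parity hG ψ ht
  rw [h3, h2, h1]
  unfold Nat.ModEq at hp ⊢
  omega

end Cfsg.Agent.Lib.InvCentS7.Tools
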