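/-
Finite computations in `Perm (Fin 7)` by a list encoding (helper74, for S3147).
-/
import Mathlib.Data.List.Permutation
import Mathlib.GroupTheory.Perm.Cycle.Type
import Mathlib.Tactic

set_option autoImplicit false

namespace Cfsg.Agent.Lib.InvCentS7.Enc

open Equiv

/-- `S₇`. -/
abbrev P7 := Equiv.Perm (Fin 7)

/-- The list of values of a permutation. -/
def enc (σ : P7) : List ℕ := List.ofFn fun i => (σ i : ℕ)

/-- Composition of encoded permutations. -/
def cm (f g : List ℕ) : List ℕ := g.map fun i => f.getD i 0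

/-- The encoded identity. -/
def idL : List ℕ := [0, 1, 2, 3, 4, 5, 6]

/-- All encoded permutations. -/
def all7 : List (List ℕ) := List.permutations' idL

/-- Number of moved points of an encoded permutation. -/
def mvL (f : List ℕ) : ℕ := ([0, 1, 2, 3, 4, 5, 6].filter fun i => f.getD i 0 != i).length

/-- Number of moved points. -/
def mv (σ : P7) : ℕ := (Finset.univ.filter fun i => σ i ≠ i).card

theorem enc_getD (σ : P7) (i : Fin 7) : (enc σ).getD (i : ℕ) 0 = (σ i : ℕ) := by
  rw [List.getD_eq_getElem?_getD, enc, List.getElem?_ofFn]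
  simp

theorem enc_mul (σ τ : P7) : enc (σ * τ) = cm (enc σ) (enc τ) := by
  rw [cm, enc, show (enc τ) = List.ofFn (fun i => (τ i : ℕ)) from rfl, List.map_ofFn]
  congr 1
  funext i
  simp only [Function.comp_apply, Perm.mul_apply]
  exact (enc_getD σ (τ i)).symm

theorem enc_injective : Function.Injective enc := fun σ τ h => by
  ext i
  have := congrArg (fun l : List ℕ => l.getD (i : ℕ) 0) h
  simp only [enc_getD] at this
  exact this

theorem enc_one : enc 1 = idL := by decide

theorem enc_mem (σ : P7) : enc σ ∈ all7 := by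
  rw [all7, List.mem_permutations']
  have h := Equiv.Perm.ofFn_comp_perm σ (fun i : Fin 7 => (i : ℕ))
  exact h

theorem all7_surj {f : List ℕ} (hf : f ∈ all7) : ∃ σ : P7, enc σ = f := by
  classical
  have hsub : (Finset.univ : Finset P7).image enc ⊆ all7.toFinset := by
    intro g hg
    obtain ⟨σ, -, rfl⟩ := Finset.mem_image.mp hg
    exact List.mem_toFinset.mpr (enc_mem σ)
  have hlen : all7.length = 5040 := by decide +kernel
  have hcard : all7.toFinset.card ≤ ((Finset.univ : Finset P7).image enc).card := by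
    rw [Finset.card_image_of_injective _ enc_injective, Finset.card_univ, Fintype.card_perm, Fintype.card_fin]
    exact (List.toFinset_card_le all7).trans (by rw [hlen]; decide)
  have := Finset.eq_of_subset_of_card_le hsub hcard ▸ List.mem_toFinset.mpr hf
  obtain ⟨σ, -, h⟩ := Finset.mem_image.mp this
  exact ⟨σ, h⟩

theorem mv_eq (σ : P7) : mv σ = mvL (enc σ) := by
  have h : ([0, 1, 2, 3, 4, 5, 6] : List ℕ) = (List.finRange 7).map Fin.val := by decide
  rw [mv, mvL, h, List.filter_map, List.length_map]
  rw [← List.toFinset_card_of_nodup ((List.nodup_finRange 7).filter _)]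
  congr 1
  ext i
  have := enc_getD σ i
  simp [← Fin.val_inj, List.getD] at this ⊢
  omega

theorem eq_iff {σ τ : P7} : σ = τ ↔ enc σ = enc τ := enc_injective.eq_iff.symm

theorem commute_iff {σ τ : P7} : σ * τ = τ * σ ↔ cm (enc σ) (enc τ) = cm (enc τ) (enc σ) := by
  rw [eq_iff, enc_mul, enc_mul]

theorem sq_iff {σ : P7} : σ * σ = 1 ↔ cm (enc σ) (enc σ) = idL := by
  rw [eq_iff, enc_mul, enc_one]

/-- Encoded involution test. -/
def invB (f : List ℕ) : Bool := cm f f == idL && f != idL

/-- Encoded commutation test. -/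
def comB (f g : List ℕ) : Bool := cm f g == cm g f

/-- `σ` is an involution. -/
def Inv2 (σ : P7) : Prop := σ * σ = 1 ∧ σ ≠ 1

theorem inv2_iff {σ : P7} : Inv2 σ ↔ invB (enc σ) = true := by
  rw [Inv2, sq_iff, Ne, eq_iff (τ := 1), enc_one]
  simp [invB]

theorem comB_iff {σ τ : P7} : σ * τ = τ * σ ↔ comB (enc σ) (enc τ) = true := by
  simp [comB, commute_iff]

/-- All encoded involutions. -/
def invL : List (List ℕ) := all7.filter invB

theorem mem_invL {σ : P7} : enc σ ∈ invL ↔ Inv2 σ := by
  simp [invL, enc_mem, inv2_iff]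

theorem card_sub (P : P7 → Prop) (l : List (List ℕ)) (b : List ℕ → Bool) (hl : l.Nodup)
    (hlm : ∀ f ∈ l, f ∈ all7) (h : ∀ σ, P σ ↔ enc σ ∈ l ∧ b (enc σ) = true) :
    Nat.card {σ : P7 // P σ} = (l.filter b).length := by
  classical
  rw [Nat.card_eq_fintype_card, Fintype.card_subtype, ← List.toFinset_card_of_nodup (hl.filter _),
    ← Finset.card_image_of_injective (Finset.univ.filter P) enc_injective]
  congr 1
  ext f
  simp only [Finset.mem_image, Finset.mem_filter, Finset.mem_univ, true_and, List.mem_toFinset,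
    List.mem_filter]
  constructor
  · rintro ⟨σ, hσ, rfl⟩
    exact (h σ).mp hσ
  · rintro ⟨hf, hb⟩
    obtain ⟨σ, rfl⟩ := all7_surj (hlm f hf)
    exact ⟨σ, (h σ).mpr ⟨hf, hb⟩, rfl⟩

theorem all7_nodup : all7.Nodup := by
  have h : idL.Nodup := by decide
  exact (List.nodup_permutations idL h).perm (List.permutations_perm_permutations' idL)

theorem invL_nodup : invL.Nodup := all7_nodup.filter _

theorem invL_sub : ∀ f ∈ invL, f ∈ all7 := fun _ hf => (List.mem_filter.mp hf).1

end Cfsg.Agent.Lib.InvCentS7.Enc
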