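/-
Further finite facts on `Perm (Fin 7)` (helper74, for S3147).
-/
import Cfsg.Agent.Lib.InvCentS7.Finite

set_option autoImplicit false

namespace Cfsg.Agent.Lib.InvCentS7

open Equiv Enc

/-- Braid-related encoded pair. -/
def brB (x y : List ℕ) : Bool := cm x (cm y x) == cm y (cm x y) && x != y

/-- Conjugation `c a c⁻¹ = x`, multiplicatively. -/
def cjB (c a x : List ℕ) : Bool := cm c a == cm x c

theorem cjB_iff {c a x : S7} : c * a * c⁻¹ = x ↔ cjB (enc c) (enc a) (enc x) = true := by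
  rw [cjB, beq_iff_eq, ← enc_mul, ← enc_mul, ← eq_iff, mul_inv_eq_iff_eq_mul]

def invA : List (List ℕ) := invL.filter fun f => comB f eA
def invT : List (List ℕ) := invL.filter fun f => comB f eT

theorem mem_invA {σ : S7} : enc σ ∈ invA ↔ Inv2 σ ∧ σ * pA = pA * σ := by
  rw [invA, List.mem_filter, mem_invL, comB_iff, enc_pA]

theorem mem_invT {σ : S7} : enc σ ∈ invT ↔ Inv2 σ ∧ σ * pT = pT * σ := by
  rw [invT, List.mem_filter, mem_invL, comB_iff, enc_pT]

def okA (cs : List (List ℕ)) (g t : List (List ℕ)) (x : List (List ℕ)) : Bool :=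
  cs.any fun c => ((g.zip x).all fun p => cjB c p.1 p.2) || ((t.zip x).all fun p => cjB c p.1 p.2)

def tablesA : Bool :=
  let J := invA
  let cs := cAList.map enc
  let g := [enc s1, enc s2, enc s3, enc s4]
  let t := [enc (pA * s1), enc (pA * s2), enc (pA * s3), enc (pA * s4)]
  J.all fun x1 => (J.filter (brB x1)).all fun x2 =>
    (J.filter fun x => brB x2 x && comB x1 x).all fun x3 =>
      (J.filter fun x => brB x3 x && (comB x1 x && comB x2 x)).all fun x4 =>
        okA cs g t [x1, x2, x3, x4]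

theorem tablesA_eq : tablesA = true := by decide +kernel

/-- Every system of four braiding involutions in the centraliser of `pA` is conjugate to the
standard one or to the standard one multiplied by `pA`. -/
theorem classify_cA {x1 x2 x3 x4 : S7}
    (i1 : Inv2 x1 ∧ x1 * pA = pA * x1) (i2 : Inv2 x2 ∧ x2 * pA = pA * x2)
    (i3 : Inv2 x3 ∧ x3 * pA = pA * x3) (i4 : Inv2 x4 ∧ x4 * pA = pA * x4)
    (b12 : x1 * (x2 * x1) = x2 * (x1 * x2)) (n12 : x1 ≠ x2)
    (b23 : x2 * (x3 * x2) = x3 * (x2 * x3)) (n23 : x2 ≠ x3)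
    (b34 : x3 * (x4 * x3) = x4 * (x3 * x4)) (n34 : x3 ≠ x4)
    (c13 : x1 * x3 = x3 * x1) (c14 : x1 * x4 = x4 * x1) (c24 : x2 * x4 = x4 * x2) :
    ∃ c : S7, c * pA = pA * c ∧
      ((c * s1 * c⁻¹ = x1 ∧ c * s2 * c⁻¹ = x2 ∧ c * s3 * c⁻¹ = x3 ∧ c * s4 * c⁻¹ = x4) ∨
       (c * (pA * s1) * c⁻¹ = x1 ∧ c * (pA * s2) * c⁻¹ = x2 ∧ c * (pA * s3) * c⁻¹ = x3 ∧
          c * (pA * s4) * c⁻¹ = x4)) := by
  have key := tablesA_eq
  simp only [tablesA, List.all_eq_true, List.mem_filter, Bool.and_eq_true, and_imp] at key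
  have hb : ∀ {x y : S7}, x * (y * x) = y * (x * y) → x ≠ y → brB (enc x) (enc y) = true := by
    intro x y hxy hne
    rw [brB, Bool.and_eq_true, beq_iff_eq, bne_iff_ne, ← enc_mul, ← enc_mul, ← enc_mul, ← enc_mul]
    exact ⟨by rw [hxy], fun e => hne (enc_injective e)⟩
  have h := key (enc x1) (mem_invA.mpr i1) (enc x2) (mem_invA.mpr i2) (hb b12 n12)
    (enc x3) (mem_invA.mpr i3) (hb b23 n23) (comB_iff.mp c13)
    (enc x4) (mem_invA.mpr i4) (hb b34 n34) (comB_iff.mp c14) (comB_iff.mp c24)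
  simp only [okA, List.any_eq_true, List.mem_map, Bool.or_eq_true, List.zip_cons_cons,
    List.zip_nil_right, List.all_cons, List.all_nil, Bool.and_eq_true, and_true] at h
  obtain ⟨f, ⟨c, hc, rfl⟩, h⟩ := h
  simp only [← cjB_iff] at h
  refine ⟨c, ?_, ?_⟩
  · have hall : ∀ d ∈ cAList, d ∈ Subgroup.centralizer ({pA} : Set S7) := by
      refine mem_prodsL ?_ (mem_prodsL ?_ (mem_prodsL ?_ (mem_prodsL ?_ ?_)))
      all_goals
        intro x hx
        fin_cases hx
      all_goals
        rw [Subgroup.mem_centralizer_iff]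
        intro y hy
        rw [Set.mem_singleton_iff] at hy
        subst hy
        decide +kernel
    exact ((Subgroup.mem_centralizer_iff.mp (hall c hc)) pA rfl).symm
  · exact h

def tablesT : Bool :=
  let J := invT
  let cs := cTList.map enc
  let g := [eA, eB, eC, eE, eE2]
  let t := [eA, eB, eC, enc (pT * pE), enc (pT * pE2)]
  J.all fun xa => (J.filter fun x => comB xa x && x != xa).all fun xb =>
    (J.filter fun x => cm (cm xa xb) x == eT && x != xa && x != xb).all fun xc =>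
      (J.filter fun x => cm x xa == cm xa x && cm x xb == cm xc x).all fun x1 =>
        (J.filter fun x => cm x xa == cm xb x && cm x xc == cm xc x &&
            cm (cm x1 x) (cm (cm x1 x) (cm x1 x)) == idL).all fun x2 =>
          okA cs g t [xa, xb, xc, x1, x2]

theorem tablesT_eq : tablesT = true := by decide +kernel

/-- Every system of generators with the standard relations in the centraliser of `pT` is
conjugate to the standard one, or to the standard one with `pE`, `pE2` multiplied by `pT`. -/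
theorem classify_cT {xa xb xc x1 x2 : S7}
    (ia : Inv2 xa ∧ xa * pT = pT * xa) (ib : Inv2 xb ∧ xb * pT = pT * xb)
    (ic : Inv2 xc ∧ xc * pT = pT * xc)
    (i1 : Inv2 x1 ∧ x1 * pT = pT * x1) (i2 : Inv2 x2 ∧ x2 * pT = pT * x2)
    (cab : xa * xb = xb * xa) (nab : xb ≠ xa) (pabc : xa * xb * xc = pT)
    (nac : xc ≠ xa) (nbc : xc ≠ xb)
    (e1a : x1 * xa = xa * x1) (e1b : x1 * xb = xc * x1)
    (e2a : x2 * xa = xb * x2) (e2c : x2 * xc = xc * x2)
    (e3 : x1 * x2 * (x1 * x2 * (x1 * x2)) = 1) :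
    ∃ c : S7, c * pT = pT * c ∧ c * pA * c⁻¹ = xa ∧ c * pB * c⁻¹ = xb ∧ c * pC * c⁻¹ = xc ∧
      ((c * pE * c⁻¹ = x1 ∧ c * pE2 * c⁻¹ = x2) ∨
       (c * (pT * pE) * c⁻¹ = x1 ∧ c * (pT * pE2) * c⁻¹ = x2)) := by
  have key := tablesT_eq
  simp only [tablesT, List.all_eq_true, List.mem_filter, Bool.and_eq_true, beq_iff_eq,
    bne_iff_ne, and_imp] at key
  have hne : ∀ {x y : S7}, x ≠ y → enc x ≠ enc y := fun h e => h (enc_injective e)
  have h := key (enc xa) (mem_invT.mpr ia) (enc xb) (mem_invT.mpr ib) (comB_iff.mp cab) (hne nab)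
    (enc xc) (mem_invT.mpr ic) (by rw [← enc_mul, ← enc_mul, pabc, enc_pT]) (hne nac) (hne nbc)
    (enc x1) (mem_invT.mpr i1) (by rw [← enc_mul, ← enc_mul, e1a])
      (by rw [← enc_mul, ← enc_mul, e1b])
    (enc x2) (mem_invT.mpr i2) (by rw [← enc_mul, ← enc_mul, e2a])
      (by rw [← enc_mul, ← enc_mul, e2c])
      (by rw [← enc_mul, ← enc_mul, ← enc_mul, e3, enc_one])
  simp only [okA, List.any_eq_true, List.mem_map, Bool.or_eq_true, List.zip_cons_cons,
    List.zip_nil_right, List.all_cons, List.all_nil, Bool.and_eq_true, and_true,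
    ← enc_pA, ← enc_pB, ← enc_pC, ← enc_pE, ← enc_pE2] at h
  obtain ⟨f, ⟨c, hc, rfl⟩, h⟩ := h
  simp only [← cjB_iff] at h
  refine ⟨c, ?_, ?_⟩
  · have hall : ∀ d ∈ cTList, d ∈ Subgroup.centralizer ({pT} : Set S7) := by
      refine mem_prodsL ?_ (mem_prodsL ?_ (mem_prodsL ?_ ?_))
      all_goals
        intro x hx
        fin_cases hx
      all_goals
        rw [Subgroup.mem_centralizer_iff]
        intro y hy
        rw [Set.mem_singleton_iff] at hy
        subst hy
        decide +kernel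
    exact ((Subgroup.mem_centralizer_iff.mp (hall c hc)) pT rfl).symm
  · rcases h with ⟨ha, hb, hc, h1, h2⟩ | ⟨ha, hb, hc, h1, h2⟩
    · exact ⟨ha, hb, hc, Or.inl ⟨h1, h2⟩⟩
    · exact ⟨ha, hb, hc, Or.inr ⟨h1, h2⟩⟩

/-! ### Centralisers -/

theorem cent_cA {σ : S7} (ha : σ * pA = pA * σ) (h1 : σ * s1 = s1 * σ) (h2 : σ * s2 = s2 * σ)
    (h3 : σ * s3 = s3 * σ) (h4 : σ * s4 = s4 * σ) : σ = 1 ∨ σ = pA := by
  have key : (all7.filter fun f => comB f eA && (comB f (enc s1) && (comB f (enc s2) &&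
      (comB f (enc s3) && comB f (enc s4))))).all (fun f => f == idL || f == eA) = true := by
    decide +kernel
  rw [List.all_eq_true] at key
  have := key (enc σ) (List.mem_filter.mpr ⟨enc_mem σ, by
    rw [comB_iff, enc_pA] at ha; rw [comB_iff] at h1 h2 h3 h4; simp [ha, h1, h2, h3, h4]⟩)
  simpa [eq_iff (σ := σ), enc_one, enc_pA] using this

theorem cent_cT {σ : S7} (ha : σ * pA = pA * σ) (hb : σ * pB = pB * σ) (hc : σ * pC = pC * σ)
    (h1 : σ * pE = pE * σ) (h2 : σ * pE2 = pE2 * σ) : σ = 1 ∨ σ = pT := by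
  have key : (all7.filter fun f => comB f eA && (comB f eB && (comB f eC &&
      (comB f eE && comB f eE2)))).all (fun f => f == idL || f == eT) = true := by
    decide +kernel
  rw [List.all_eq_true] at key
  rw [comB_iff] at ha hb hc h1 h2
  rw [enc_pA] at ha; rw [enc_pB] at hb; rw [enc_pC] at hc; rw [enc_pE] at h1; rw [enc_pE2] at h2
  have := key (enc σ) (List.mem_filter.mpr ⟨enc_mem σ, by simp [ha, hb, hc, h1, h2]⟩)
  simpa [eq_iff (σ := σ), enc_one, enc_pT] using this

theorem cent_tK {σ : S7} (ha : σ * pA = pA * σ) (hb : σ * pB = pB * σ) (hc : σ * pC = pC * σ)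
    (h1 : σ * pE = pE * σ) : σ = 1 ∨ σ = pA ∨ σ = pZ ∨ σ = pT := by
  have key : (all7.filter fun f => comB f eA && (comB f eB && (comB f eC &&
      comB f eE))).all (fun f => f == idL || (f == eA || (f == eZ || f == eT))) = true := by
    decide +kernel
  rw [List.all_eq_true] at key
  rw [comB_iff] at ha hb hc h1
  rw [enc_pA] at ha; rw [enc_pB] at hb; rw [enc_pC] at hc; rw [enc_pE] at h1
  have := key (enc σ) (List.mem_filter.mpr ⟨enc_mem σ, by simp [ha, hb, hc, h1]⟩)
  simpa [eq_iff (σ := σ), enc_one, enc_pA, enc_pZ, enc_pT] using this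

theorem small_cent {c : S7} (hc : Inv2 c) (hca : c * pA = pA * c) (hne : c ≠ pA) :
    Nat.card {σ : S7 // σ * pA = pA * σ ∧ σ * c = c * σ} < 48 := by
  have key : (invA.filter fun g => g != eA).all (fun g =>
      decide (((all7.filter fun f => comB f eA).filter fun f => comB f g).length < 48)) = true := by
    decide +kernel
  rw [List.all_eq_true] at key
  rw [card_sub _ (all7.filter fun f => comB f eA) (fun f => comB f (enc c))
    (all7_nodup.filter _) (fun f hf => (List.mem_filter.mp hf).1)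
    (fun σ => by rw [comB_iff, comB_iff, enc_pA, List.mem_filter]; simp [enc_mem])]
  have := key (enc c) (List.mem_filter.mpr ⟨mem_invA.mpr ⟨hc, hca⟩, by
    rw [bne_iff_ne, ← enc_pA]; exact fun e => hne (enc_injective e)⟩)
  exact of_decide_eq_true this

/-! ### The centraliser of `pZ` -/

theorem order_three_comm_pZ {σ : S7} (h3 : σ * (σ * σ) = 1) (h1 : σ ≠ 1) (hz : σ * pZ = pZ * σ) :
    σ = pY ∨ σ = pY * pY := by
  have key : (all7.filter fun f => comB f eZ && (cm f (cm f f) == idL && f != idL)).all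
      (fun f => f == eY || f == cm eY eY) = true := by decide +kernel
  rw [List.all_eq_true] at key
  have h3' : cm (enc σ) (cm (enc σ) (enc σ)) = idL := by rw [← enc_mul, ← enc_mul, h3, enc_one]
  have h1' : enc σ ≠ idL := fun e => h1 (enc_injective (e.trans enc_one.symm))
  have := key (enc σ) (List.mem_filter.mpr ⟨enc_mem σ, by
    rw [comB_iff, enc_pZ] at hz; simp [hz, h3', h1']⟩)
  simpa [eq_iff (σ := σ), enc_mul, enc_pY] using this

def invZY : List (List ℕ) := invL.filter fun f => comB f eZ && comB f eY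

theorem mem_invZY {σ : S7} (h : Inv2 σ) (hz : σ * pZ = pZ * σ) (hy : σ * pY = pY * σ) :
    enc σ ∈ invZY := by
  rw [invZY, List.mem_filter, mem_invL]
  rw [comB_iff, enc_pZ] at hz
  rw [comB_iff, enc_pY] at hy
  simp [h, hz, hy]

theorem zy_pair {β η : S7} (hβ : Inv2 β) (hβz : β * pZ = pZ * β) (hβy : β * pY = pY * β)
    (hη : Inv2 η) (hηz : η * pZ = pZ * η) (hηy : η * pY = pY * η) (hne : β * η ≠ η * β) :
    mv β = 2 ∨ mv η = 2 := by
  have key : invZY.all (fun f => invZY.all fun g =>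
      comB f g || (mvL f == 2 || mvL g == 2)) = true := by decide +kernel
  rw [List.all_eq_true] at key
  have := List.all_eq_true.mp (key _ (mem_invZY hβ hβz hβy)) _ (mem_invZY hη hηz hηy)
  rw [Ne, comB_iff] at hne
  simpa [hne, mv_eq] using this

theorem zy_no_six {β : S7} (hβ : Inv2 β) (hβz : β * pZ = pZ * β) (hβy : β * pY = pY * β) :
    mv β ≠ 6 := by
  have key : invZY.all (fun f => mvL f != 6) = true := by decide +kernel
  rw [List.all_eq_true] at key
  simpa [mv_eq] using key _ (mem_invZY hβ hβz hβy)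

theorem companion {l : S7} (hl : Inv2 l) (hlz : l * pZ = pZ * l) :
    ∃ k : S7, Inv2 k ∧ mv k = 2 ∧ k * pZ = pZ * k ∧ k * l = l * k ∧ mv (pZ * k) = 6 := by
  have key : (invL.filter fun f => comB f eZ).all (fun f => invL.any fun g =>
      mvL g == 2 && (comB g eZ && (comB g f && mvL (cm eZ g) == 6))) = true := by decide +kernel
  rw [List.all_eq_true] at key
  have := key (enc l) (List.mem_filter.mpr ⟨mem_invL.mpr hl, by
    rw [comB_iff, enc_pZ] at hlz; exact hlz⟩)
  simp only [List.any_eq_true, Bool.and_eq_true, beq_iff_eq] at this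
  obtain ⟨g, hg, h2, hgz, hgl, h6⟩ := this
  obtain ⟨k, rfl⟩ := all7_surj (invL_sub g hg)
  exact ⟨k, mem_invL.mp hg, by rw [mv_eq, h2], by rw [comB_iff, enc_pZ, hgz],
    by rw [comB_iff, hgl], by rw [mv_eq, enc_mul, enc_pZ, h6]⟩

end Cfsg.Agent.Lib.InvCentS7
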