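/-
Finite facts inside the centraliser of `pA` and `pZ` (helper74, for S3147).
-/
import Cfsg.Agent.Lib.InvCentS7.Tables

set_option autoImplicit false

namespace Cfsg.Agent.Lib.InvCentS7

open Equiv Enc

theorem mem_tK_filter {σ : S7} (ha : σ * pA = pA * σ) (hz : σ * pZ = pZ * σ) :
    enc σ ∈ all7.filter (fun f => comB f eA && comB f eZ) := by
  rw [comB_iff, enc_pA] at ha
  rw [comB_iff, enc_pZ] at hz
  simp [enc_mem, ha, hz]

theorem sq_tK {σ : S7} (ha : σ * pA = pA * σ) (hz : σ * pZ = pZ * σ) :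
    σ * σ = 1 ∨ σ * σ = pZ := by
  have key : (all7.filter fun f => comB f eA && comB f eZ).all
      (fun f => cm f f == idL || cm f f == eZ) = true := by decide +kernel
  rw [List.all_eq_true] at key
  simpa [eq_iff (σ := σ * σ), enc_mul, enc_one, enc_pZ] using key _ (mem_tK_filter ha hz)

def invTK : List (List ℕ) := invL.filter fun f => comB f eA && comB f eZ

theorem mem_invTK {σ : S7} (h : Inv2 σ) (ha : σ * pA = pA * σ) (hz : σ * pZ = pZ * σ) :
    enc σ ∈ invTK := by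
  rw [comB_iff, enc_pA] at ha
  rw [comB_iff, enc_pZ] at hz
  simp [invTK, mem_invL, h, ha, hz]

theorem two_tK {σ : S7} (h : Inv2 σ) (ha : σ * pA = pA * σ) (hz : σ * pZ = pZ * σ)
    (h2 : mv σ = 2) : σ = pA ∨ σ = pB ∨ σ = pC := by
  have key : invTK.all (fun f => mvL f != 2 || (f == eA || (f == eB || f == eC))) = true := by
    decide +kernel
  rw [List.all_eq_true] at key
  have := key _ (mem_invTK h ha hz)
  rw [mv_eq] at h2
  simpa [h2, eq_iff (σ := σ), enc_pA, enc_pB, enc_pC] using this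

theorem six_tK {σ : S7} (h : Inv2 σ) (ha : σ * pA = pA * σ) (hz : σ * pZ = pZ * σ)
    (h6 : mv σ = 6) : σ = pT ∨ σ = pA * pE ∨ σ = pA * pE * pZ := by
  have key : invTK.all (fun f => mvL f != 6 ||
      (f == eT || (f == cm eA eE || f == cm (cm eA eE) eZ))) = true := by decide +kernel
  rw [List.all_eq_true] at key
  have := key _ (mem_invTK h ha hz)
  rw [mv_eq] at h6
  simpa [h6, eq_iff (σ := σ), enc_mul, enc_pA, enc_pE, enc_pZ, enc_pT] using this

/-- `b`-lemma: the possible images of `pB`. -/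
theorem b_image {σ : S7} (h : Inv2 σ) (ha : σ * pA = pA * σ) (hz : σ * pZ = pZ * σ)
    (hy : σ * pY = pY * σ) (h4 : mv (pA * σ) = 4) (hne : σ ≠ pT) : σ = pB ∨ σ = pC := by
  have key : invTK.all (fun f => !(comB f eY) || (mvL (cm eA f) != 4 ||
      (f == eT || (f == eB || f == eC)))) = true := by decide +kernel
  rw [List.all_eq_true] at key
  have := key _ (mem_invTK h ha hz)
  rw [mv_eq, enc_mul, enc_pA] at h4
  rw [comB_iff, enc_pY] at hy
  have hne' : enc σ ≠ eT := fun e => hne (enc_injective (e.trans enc_pT.symm))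
  simpa [h4, hy, hne', eq_iff (σ := σ), enc_pB, enc_pC] using this

/-- `e`-lemma: the possible images of `pE`. -/
theorem e_image {σ : S7} (h : Inv2 σ) (ha : σ * pA = pA * σ) (hz : σ * pZ = pZ * σ)
    (hy : σ * pY = pY * σ) (h4 : mv σ = 4) (hne : σ ≠ pZ) : σ = pE ∨ σ = pE * pZ := by
  have key : invTK.all (fun f => !(comB f eY) || (mvL f != 4 ||
      (f == eZ || (f == eE || f == cm eE eZ)))) = true := by decide +kernel
  rw [List.all_eq_true] at key
  have := key _ (mem_invTK h ha hz)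
  rw [mv_eq] at h4
  rw [comB_iff, enc_pY] at hy
  have hne' : enc σ ≠ eZ := fun e => hne (enc_injective (e.trans enc_pZ.symm))
  simpa [h4, hy, hne', eq_iff (σ := σ), enc_mul, enc_pE, enc_pZ] using this

theorem cent_aze {σ : S7} (ha : σ * pA = pA * σ) (hz : σ * pZ = pZ * σ) (he : σ * pE = pE * σ) :
    σ ∈ ([1, pA, pZ, pT, pE, pA * pE, pE * pZ, pA * pE * pZ] : List S7) := by
  have key : (all7.filter fun f => comB f eA && comB f eZ).all (fun f => !(comB f eE) ||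
      ([idL, eA, eZ, eT, eE, cm eA eE, cm eE eZ, cm (cm eA eE) eZ] : List (List ℕ)).contains f) =
      true := by decide +kernel
  rw [List.all_eq_true] at key
  have := key _ (mem_tK_filter ha hz)
  rw [comB_iff, enc_pE] at he
  simpa [he, eq_iff (σ := σ), enc_mul, enc_one, enc_pA, enc_pZ, enc_pT, enc_pE] using this

theorem card_cent_aze :
    Nat.card {σ : S7 // σ * pA = pA * σ ∧ σ * pZ = pZ * σ ∧ σ * pE = pE * σ} = 8 := by
  rw [card_sub _ all7 (fun f => comB f eA && (comB f eZ && comB f eE)) all7_nodup (fun _ h => h)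
    (fun σ => by rw [comB_iff, comB_iff, comB_iff, enc_pA, enc_pZ, enc_pE]; simp [enc_mem])]
  decide +kernel

theorem pY3_comm : pY3 * pA = pA * pY3 := by decide +kernel
theorem pY3_pZ : pY3 * pZ * pY3⁻¹ = pE ∨ pY3 * pZ * pY3⁻¹ = pE * pZ := by decide +kernel
theorem pY3_pE : pY3 * pE * pY3⁻¹ = pZ ∨ pY3 * pE * pY3⁻¹ = pE * pZ ∨
    pY3 * pE * pY3⁻¹ = pE := by decide +kernel

def fpB (g : List ℕ → List ℕ → Bool) : Bool :=
  (invA.filter fun z => mvL z == 4 && mvL (cm eA z) == 6).all fun z =>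
    (invA.filter fun b => comB b z).all fun b =>
      (invA.filter fun x => comB x z && !(comB x b)).all fun x => g b x

theorem fp_pA {Z β ξ : S7} (hZ : Inv2 Z) (hZA : Z * pA = pA * Z) (hZ4 : mv Z = 4)
    (hAZ : mv (pA * Z) = 6) (hβ : Inv2 β) (hβA : β * pA = pA * β) (hβZ : β * Z = Z * β)
    (hξ : Inv2 ξ) (hξA : ξ * pA = pA * ξ) (hξZ : ξ * Z = Z * ξ) (hne : ξ * β ≠ β * ξ) :
    (mv β = 2 → mv ξ ≠ 2 ∧ mv (ξ * pA) ≠ 2 ∧ ¬(mv ξ = 4 ∧ mv (ξ * pA) = 4)) ∧
    (mv β = 6 → mv ξ ≠ 6 ∧ mv (ξ * pA) ≠ 6) := by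
  have key : fpB (fun b x => (mvL b != 2 || (mvL x != 2 && (mvL (cm x eA) != 2 &&
      !(mvL x == 4 && mvL (cm x eA) == 4)))) &&
      (mvL b != 6 || (mvL x != 6 && mvL (cm x eA) != 6))) = true := by decide +kernel
  simp only [fpB, List.all_eq_true, List.mem_filter, and_imp] at key
  rw [mv_eq, enc_mul, enc_pA] at hAZ
  rw [mv_eq] at hZ4
  rw [comB_iff] at hβZ hξZ
  rw [Ne, comB_iff] at hne
  have := key (enc Z) (mem_invA.mpr ⟨hZ, hZA⟩) (by simp [hZ4, hAZ]) (enc β)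
    (mem_invA.mpr ⟨hβ, hβA⟩) hβZ (enc ξ) (mem_invA.mpr ⟨hξ, hξA⟩) (by simp [hξZ, hne])
  simp only [mv_eq, enc_mul, enc_pA]
  constructor
  · intro h
    simp [h] at this
    refine ⟨this.1, this.2.1, fun h4 => ?_⟩
    rcases this.2.2 with h5 | h5
    · exact h5 h4.1
    · exact h5 h4.2
  · intro h
    simp [h] at this
    exact this

/-- The decisive configuration lemma. -/
theorem fp {A Z β ξ : S7} (hA : Inv2 A) (hA2 : mv A = 2) (hZ : Inv2 Z) (hZA : Z * A = A * Z)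
    (hZ4 : mv Z = 4) (hAZ : mv (A * Z) = 6) (hβ : Inv2 β) (hβA : β * A = A * β)
    (hβZ : β * Z = Z * β) (hξ : Inv2 ξ) (hξA : ξ * A = A * ξ) (hξZ : ξ * Z = Z * ξ)
    (hne : ξ * β ≠ β * ξ) :
    (mv β = 2 → mv ξ ≠ 2 ∧ mv (ξ * A) ≠ 2 ∧ ¬(mv ξ = 4 ∧ mv (ξ * A) = 4)) ∧
    (mv β = 6 → mv ξ ≠ 6 ∧ mv (ξ * A) ≠ 6) := by
  obtain ⟨c, hc⟩ := exists_conj hA inv2_pA (by rw [hA2, mv_pA])
  have hcc : ∀ x y : S7, x * y = y * x →
      (c * x * c⁻¹) * (c * y * c⁻¹) = (c * y * c⁻¹) * (c * x * c⁻¹) := by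
    intro x y h
    rw [show c * x * c⁻¹ * (c * y * c⁻¹) = c * (x * y) * c⁻¹ by group, h]; group
  have hm : ∀ x y : S7, c * (x * y) * c⁻¹ = (c * x * c⁻¹) * (c * y * c⁻¹) := by
    intro x y; group
  have h := fp_pA (Z := c * Z * c⁻¹) (β := c * β * c⁻¹) (ξ := c * ξ * c⁻¹) (inv2_conj hZ c)
    (hc ▸ hcc Z A hZA) (by rw [mv_conj, hZ4]) (by rw [← hc, ← hm, mv_conj, hAZ])
    (inv2_conj hβ c) (hc ▸ hcc β A hβA) (hcc β Z hβZ) (inv2_conj hξ c) (hc ▸ hcc ξ A hξA)
    (hcc ξ Z hξZ) (fun e => hne (by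
      have e' : c * (ξ * β) * c⁻¹ = c * (β * ξ) * c⁻¹ := by rw [hm, hm]; exact e
      exact mul_left_cancel (mul_right_cancel e')))
  rw [← hc, ← hm, mv_conj, mv_conj, mv_conj] at h
  exact h

end Cfsg.Agent.Lib.InvCentS7
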