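/-
An involution with centraliser `Z₂ × S₇`: the easy fusion patterns (helper74, for S3147).
-/
import Cfsg.Agent.Lib.InvCentS7.Base

set_option autoImplicit false

namespace Cfsg.Agent.Lib.InvCentS7

open Equiv Enc

universe u

/-- The number of elements commuting with both of `a` and `b`. -/
noncomputable def centPair {G : Type u} [Group G] (a b : G) : ℕ :=
  Nat.card {g : G // g * a = a * g ∧ g * b = b * g}

theorem centPair_comm {G : Type u} [Group G] (a b : G) : centPair a b = centPair b a :=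
  Nat.card_congr (Equiv.subtypeEquivRight fun _ => and_comm)

theorem conj_comm_iff {G : Type u} [Group G] (c x y : G) :
    c * x * c⁻¹ * (c * y * c⁻¹) = c * y * c⁻¹ * (c * x * c⁻¹) ↔ x * y = y * x := by
  rw [show c * x * c⁻¹ * (c * y * c⁻¹) = c * (x * y) * c⁻¹ by group,
    show c * y * c⁻¹ * (c * x * c⁻¹) = c * (y * x) * c⁻¹ by group]
  exact ⟨fun h => mul_left_cancel (mul_right_cancel h), fun h => by rw [h]⟩

theorem centPair_conj {G : Type u} [Group G] (c a b : G) :
    centPair (c * a * c⁻¹) (c * b * c⁻¹) = centPair a b := by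
  refine (Nat.card_congr ((MulAut.conj c).toEquiv.subtypeEquiv fun g => ?_)).symm
  simp only [MulEquiv.toEquiv_eq_coe, MulEquiv.coe_toEquiv, MulAut.conj_apply, conj_comm_iff]

namespace Cent

variable {G : Type u} [Group G] (F : Cent G)

theorem centPair_ι (l : S7) :
    centPair F.t (F.ι l) = 2 * Nat.card {σ : S7 // σ * l = l * σ} := by
  have : 2 * Nat.card {σ : S7 // σ * l = l * σ} =
      Nat.card (Bool × {σ : S7 // σ * l = l * σ}) := by
    rw [Nat.card_prod]; simp
  rw [this]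
  let f : Bool × {σ : S7 // σ * l = l * σ} → {g : G // g * F.t = F.t * g ∧ g * F.ι l = F.ι l * g} :=
    fun p => ⟨(F.equivC (p.1, p.2.1) : G), Subgroup.mem_centralizer_singleton_iff.mp (F.equivC _).2,
      by
        rw [equivC_apply]
        cases p.1
        · exact F.commute_iff_ι.mpr p.2.2
        · exact F.tmul_commute_iff.mpr p.2.2⟩
  refine (Nat.card_congr (Equiv.ofBijective f ⟨?_, ?_⟩)).symm
  · rintro ⟨i, m⟩ ⟨j, n⟩ h
    have h' : F.equivC (i, m.1) = F.equivC (j, n.1) := Subtype.ext (congrArg Subtype.val h :)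
    have h'' := F.equivC.injective h'
    simp only [Prod.mk.injEq] at h''
    exact Prod.ext h''.1 (Subtype.ext h''.2)
  · rintro ⟨g, hg, hg'⟩
    obtain ⟨m, rfl | rfl⟩ := F.split g hg
    · exact ⟨(false, ⟨m, F.commute_iff_ι.mp hg'⟩), Subtype.ext (by simp [f, equivC_apply])⟩
    · exact ⟨(true, ⟨m, F.tmul_commute_iff.mp hg'⟩), Subtype.ext (by simp [f, equivC_apply])⟩

theorem centPair_tι (l : S7) : centPair F.t (F.t * F.ι l) = centPair F.t (F.ι l) := by
  refine Nat.card_congr (Equiv.subtypeEquivRight fun g => and_congr_right fun hg => ?_)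
  rw [← mul_assoc, hg, mul_assoc, mul_assoc, mul_left_cancel_iff]

theorem centPair_A : centPair F.t (F.ι pA) = 480 := by rw [F.centPair_ι, card_cent_pA]

theorem centPair_T : centPair F.t (F.t * F.ι pT) = 96 := by
  rw [F.centPair_tι, F.centPair_ι, card_cent_pT]

/-! ### Odd number of conjugates -/

section Odd

variable [Finite G] (hG : ¬ ∃ H : Subgroup G, H.index = 2)
  (hodd : ¬ 2 ∣ Nat.card {u : G // F.IsX u})
include hG hodd

theorem not_IsX_z_odd : ¬ F.IsX (F.ι pZ) ∧ ¬ F.IsX (F.t * F.ι pZ) := by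
  have h : ¬ F.IsX (F.ι pZ) := by
    intro hz
    obtain ⟨n, hn, hT⟩ := Tools.exists_normalizing F.card_T F.C_full F.T_le hz (fun x hx =>
      Subgroup.mem_centralizer_singleton_iff.mpr
        (F.ι_central_T (Or.inr (Or.inr (Or.inl rfl))) hx).symm)
    have h2 := F.z_fixed (fun x hx => (hT x).mp hx)
    exact F.t_not pZ (mul_left_cancel (mul_right_cancel (h2.trans hn.symm)))
  exact ⟨h, fun h' => h ((F.odd_case hG hodd).1.mpr h')⟩

theorem odd_same (h2 : F.IsX (F.ι pA) ↔ F.IsX (F.t * F.ι pA)) : False := by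
  obtain ⟨hz, htz⟩ := F.not_IsX_z_odd hG hodd
  obtain ⟨hA, hB⟩ := (F.odd_case hG hodd).2 hz
  have h6 : F.IsX (F.ι pT) ↔ F.IsX (F.t * F.ι pT) := by tauto
  have inv : ∀ x, F.IsX x → x * F.t = F.t * x → x ≠ F.t → F.IsX (F.t * x) := by
    intro x hx hc hne
    obtain ⟨l, rfl | rfl⟩ := F.split x hc
    · have hl := F.A_inv2 hx
      rcases mv_of_inv2 hl with e | e | e
      · rw [F.B_class hl inv2_pA (by rw [e, mv_pA]), ← h2,
          ← F.A_class hl inv2_pA (by rw [e, mv_pA])]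
        exact hx
      · exact absurd ((F.A_class hl inv2_pZ (by rw [e, mv_pZ])).mp hx) hz
      · rw [F.B_class hl inv2_pT (by rw [e, mv_pT]), ← h6,
          ← F.A_class hl inv2_pT (by rw [e, mv_pT])]
        exact hx
    · have hl : Inv2 l := ⟨F.B_sq hx, fun e => hne (by rw [e, map_one, mul_one])⟩
      rw [← mul_assoc, F.t_sq, one_mul]
      rcases mv_of_inv2 hl with e | e | e
      · rw [F.A_class hl inv2_pA (by rw [e, mv_pA]), h2,
          ← F.B_class hl inv2_pA (by rw [e, mv_pA])]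
        exact hx
      · exact absurd ((F.B_class hl inv2_pZ (by rw [e, mv_pZ])).mp hx) htz
      · rw [F.A_class hl inv2_pT (by rw [e, mv_pT]), h6,
          ← F.B_class hl inv2_pT (by rw [e, mv_pT])]
        exact hx
  obtain ⟨p, q, hp, hq, hpq, hm, hne⟩ : ∃ p q, F.IsX (F.ι p) ∧ F.IsX (F.ι q) ∧ p * q = q * p ∧
      (Inv2 (p * q) ∧ mv (p * q) = 4) ∧ p ≠ q := by
    by_cases ha : F.IsX (F.ι pA)
    · refine ⟨pA, pB, ha, (F.A_class inv2_pA inv2_pB (by rw [mv_pA, mv_pB])).mp ha,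
        by decide +kernel, ⟨?_, by decide +kernel⟩, by decide +kernel⟩
      rw [inv2_iff]; decide +kernel
    · have hT : F.IsX (F.ι pT) := by tauto
      refine ⟨pT, pA * pE, hT, (F.A_class inv2_pT ?_ (by rw [mv_pT]; decide +kernel)).mp hT,
        by decide +kernel, ⟨?_, by decide +kernel⟩, by decide +kernel⟩ <;>
        (rw [inv2_iff]; decide +kernel)
  obtain ⟨g, hg⟩ := isConj_iff.mp hp
  have hx : F.IsX (g⁻¹ * F.ι q * g) := by simpa using F.isX_conj hq g⁻¹
  have hback : g * (g⁻¹ * F.ι q * g) * g⁻¹ = F.ι q := by group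
  have hc : g⁻¹ * F.ι q * g * F.t = F.t * (g⁻¹ * F.ι q * g) := by
    rw [← conj_comm_iff g, hback, hg, F.commute_iff_ι]
    exact hpq.symm
  have hxne : g⁻¹ * F.ι q * g ≠ F.t := by
    intro e
    rw [e, hg] at hback
    exact hne (F.inj hback)
  have h3 := F.isX_conj (inv _ hx hc hxne) g
  rw [show g * (F.t * (g⁻¹ * F.ι q * g)) * g⁻¹ = g * F.t * g⁻¹ * F.ι q by group, hg, ← map_mul]
    at h3
  exact hz ((F.A_class hm.1 inv2_pZ (by rw [hm.2, mv_pZ])).mp h3)

theorem odd_mixed (h2 : F.IsX (F.ι pA)) (h6 : F.IsX (F.t * F.ι pT)) : False := by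
  obtain ⟨hz, htz⟩ := F.not_IsX_z_odd hG hodd
  obtain ⟨hA, hB⟩ := (F.odd_case hG hodd).2 hz
  have hAT : ¬ F.IsX (F.ι pT) := hA.mp h2
  have hBA : ¬ F.IsX (F.t * F.ι pA) := fun h => hB.mp h h6
  have hcen : ∀ {l : S7}, (l = 1 ∨ l = pA ∨ l = pZ ∨ l = pT) → ∀ x ∈ F.T,
      F.t * F.ι l * x = x * (F.t * F.ι l) := by
    intro l hl x hx
    rw [mul_assoc, F.ι_central_T hl hx, ← mul_assoc,
      ← Subgroup.mem_centralizer_singleton_iff.mp (F.T_le hx), mul_assoc]
  have hmem : ∀ {n : G}, (∀ x, x ∈ F.T ↔ n * x * n⁻¹ ∈ F.T) → ∀ w ∈ F.T,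
      (∀ x ∈ F.T, w * x = x * w) → F.IsX w →
      n * w * n⁻¹ = F.t ∨ n * w * n⁻¹ = F.ι pA ∨ n * w * n⁻¹ = F.t * F.ι pT := by
    intro n hn w hw hc hX
    have hXw := F.isX_conj hX n
    obtain ⟨l, hl, e⟩ := F.central_T ((hn w).mp hw) (fun x hx => by
      have hy : n⁻¹ * x * n ∈ F.T := (hn _).mpr (by
        rwa [show n * (n⁻¹ * x * n) * n⁻¹ = x by group])
      have := (conj_comm_iff n _ _).mpr (hc _ hy)
      rwa [show n * (n⁻¹ * x * n) * n⁻¹ = x by group] at this)
    rcases e with e | e <;> rw [e] at hXw ⊢ <;> rcases hl with rfl | rfl | rfl | rfl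
    · exact absurd (map_one F.ι) (F.isX_ne hXw)
    · exact Or.inr (Or.inl rfl)
    · exact absurd hXw hz
    · exact absurd hXw hAT
    · exact Or.inl (by rw [map_one, mul_one])
    · exact absurd hXw hBA
    · exact absurd hXw htz
    · exact Or.inr (Or.inr rfl)
  have ha_mem : F.ι pA ∈ F.T := F.ι_mem_T rfl (by decide +kernel)
  have hac : ∀ x ∈ F.T, F.ι pA * x = x * F.ι pA :=
    fun x hx => F.ι_central_T (Or.inr (Or.inl rfl)) hx
  obtain ⟨n1, e1, hn1⟩ := Tools.exists_normalizing F.card_T F.C_full F.T_le h2 (fun x hx =>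
    Subgroup.mem_centralizer_singleton_iff.mpr (hac x hx).symm)
  obtain ⟨n2, e2, hn2⟩ := Tools.exists_normalizing F.card_T F.C_full F.T_le h6 (fun x hx =>
    Subgroup.mem_centralizer_singleton_iff.mpr
      (hcen (Or.inr (Or.inr (Or.inr rfl))) x hx).symm)
  have hv_mem : F.t * F.ι pT ∈ F.T := F.tι_mem_T (by decide +kernel) (by decide +kernel)
  have inj : ∀ (n : G) {x y : G}, n * x * n⁻¹ = n * y * n⁻¹ → x = y :=
    fun n x y h => mul_left_cancel (mul_right_cancel h)
  -- the value of `centPair` on the pair `ι pA, t ι pT`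
  have hav : centPair (F.ι pA) (F.t * F.ι pT) = 96 := by
    rcases hmem hn1 _ ha_mem hac h2 with e | e | e
    · rcases hmem hn1 _ hv_mem (hcen (Or.inr (Or.inr (Or.inr rfl)))) h6 with e' | e' | e'
      · exact absurd (inj n1 (e.trans e'.symm)) (fun h => F.tmul_ne _ _ h.symm)
      · exact absurd (inj n1 (e1.trans e'.symm)).symm (fun h => by
          have h1 : F.t * F.ι pT = F.t * F.ι 1 := by rw [h, map_one, mul_one]
          exact inv2_pT.2 (F.tmul_inj h1))
      · rw [← F.centPair_T, ← centPair_conj n1 F.t, e1, e']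
    · exact absurd (inj n1 (e1.trans e.symm)) (fun h => F.t_not pA h.symm)
    · rcases hmem hn1 _ hv_mem (hcen (Or.inr (Or.inr (Or.inr rfl)))) h6 with e' | e' | e'
      · have := F.centPair_T
        rw [← centPair_conj n1 F.t, e1, e', centPair_comm, F.centPair_A] at this
        omega
      · exact absurd (inj n1 (e1.trans e'.symm)).symm (fun h => by
          have h1 : F.t * F.ι pT = F.t * F.ι 1 := by rw [h, map_one, mul_one]
          exact inv2_pT.2 (F.tmul_inj h1))
      · exact absurd (inj n1 (e.trans e'.symm)) (fun h => F.tmul_ne _ _ h.symm)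
  rcases hmem hn2 _ ha_mem hac h2 with e | e | e
  · have := F.centPair_A
    rw [← centPair_conj n2 F.t, e2, e, centPair_comm, F.centPair_T] at this
    omega
  · have := F.centPair_A
    rw [← centPair_conj n2 F.t, e2, e, centPair_comm, hav] at this
    omega
  · exact F.t_not pA (inj n2 (e2.trans e.symm)).symm

end Odd

/-- An odd number of conjugates of `t` forces a subgroup of index two. -/
theorem not_odd [Finite G] (hG : ¬ ∃ H : Subgroup G, H.index = 2) :
    2 ∣ Nat.card {u : G // F.IsX u} := by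
  by_contra hodd
  obtain ⟨hz, htz⟩ := F.not_IsX_z_odd hG hodd
  obtain ⟨hA, hB⟩ := (F.odd_case hG hodd).2 hz
  by_cases h : F.IsX (F.ι pA) ↔ F.IsX (F.t * F.ι pA)
  · exact F.odd_same hG hodd h
  by_cases ha : F.IsX (F.ι pA)
  · refine F.odd_mixed hG hodd ha ?_
    tauto
  · refine F.twist.odd_mixed hG hodd ?_ ?_
    · show F.IsX (F.twist.ι pA)
      rw [F.twist_odd inv2_pA (by rw [mv_pA]; decide)]
      tauto
    · show F.IsX (F.t * F.twist.ι pT)
      rw [F.twist_odd inv2_pT (by rw [mv_pT]; decide), ← mul_assoc, F.t_sq, one_mul]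
      tauto

/-! ### All six classes -/

theorem sq_mem_T [Finite G] {K : Subgroup G} {s : G} (hTK : F.T ≤ K) (hK : Nat.card K = 64)
    (hs : s ∈ K) : s * s ∈ F.T := by
  have hi : (F.T.subgroupOf K).index = 2 := by
    have h := Subgroup.index_mul_card (F.T.subgroupOf K)
    rw [Nat.card_congr (Subgroup.subgroupOfEquivOfLe hTK).toEquiv, F.card_T, hK] at h
    omega
  simpa [Subgroup.mem_subgroupOf] using Subgroup.mul_self_mem_of_index_two hi (⟨s, hs⟩ : K)

/-- A central element of `T` moved by `s` and its image multiply to an element centralised by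
`⟨T, s⟩`. -/
theorem centralizes_prod [Finite G] {K : Subgroup G} {s w : G} (hTK : F.T ≤ K)
    (hK : Nat.card K = 64) (hs : s ∈ K) (hsT : s ∉ F.T) (hn : ∀ x ∈ F.T, s * x * s⁻¹ ∈ F.T)
    (hw : w ∈ F.T) (hc : ∀ x ∈ F.T, w * x = x * w) :
    w * (s * w * s⁻¹) ∈ F.T ∧ (∀ x ∈ F.T, w * (s * w * s⁻¹) * x = x * (w * (s * w * s⁻¹))) ∧
      ∀ x ∈ K, w * (s * w * s⁻¹) * x = x * (w * (s * w * s⁻¹)) := by
  have hsq := F.sq_mem_T hTK hK hs
  have hc' : ∀ x ∈ F.T, s * w * s⁻¹ * x = x * (s * w * s⁻¹) := by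
    intro x hx
    have hy : s⁻¹ * x * s ∈ F.T := by
      have h1 : (s * s)⁻¹ * (s * x * s⁻¹) * (s * s) ∈ F.T :=
        F.T.mul_mem (F.T.mul_mem (F.T.inv_mem hsq) (hn x hx)) hsq
      rwa [show (s * s)⁻¹ * (s * x * s⁻¹) * (s * s) = s⁻¹ * x * s by group] at h1
    have := (conj_comm_iff s _ _).mpr (hc _ hy)
    rwa [show s * (s⁻¹ * x * s) * s⁻¹ = x by group] at this
  have h1 : ∀ x ∈ F.T, w * (s * w * s⁻¹) * x = x * (w * (s * w * s⁻¹)) := by
    intro x hx
    rw [mul_assoc, hc' x hx, ← mul_assoc, hc x hx, mul_assoc]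
  have hfix : s * (s * w * s⁻¹) * s⁻¹ = w := by
    rw [show s * (s * w * s⁻¹) * s⁻¹ = (s * s) * w * (s * s)⁻¹ by group, ← hc _ hsq]
    group
  refine ⟨F.T.mul_mem hw (hn w hw), h1, F.centralizes_K hTK hK hs hsT h1 ?_⟩
  rw [show s * (w * (s * w * s⁻¹)) * s⁻¹ = s * w * s⁻¹ * (s * (s * w * s⁻¹) * s⁻¹) by group, hfix]
  exact hc' _ hw

theorem no_six [Finite G] (hG : ¬ ∃ H : Subgroup G, H.index = 2) (h2 : F.IsX (F.ι pA))
    (h2' : F.IsX (F.t * F.ι pA)) : False := by
  have hev := F.not_odd hG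
  obtain ⟨htz, hA, hB, -⟩ := F.even_case hG hev
  have key : ∀ w ∈ F.T, (∀ x ∈ F.T, w * x = x * w) → w = 1 ∨ w = F.ι pZ ∨ F.IsX w := by
    intro w hw hc
    obtain ⟨l, hl, e⟩ := F.central_T hw hc
    rcases e with rfl | rfl <;> rcases hl with rfl | rfl | rfl | rfl
    · exact Or.inl (map_one _)
    · exact Or.inr (Or.inr h2)
    · exact Or.inr (Or.inl rfl)
    · exact Or.inr (Or.inr (hA.mp h2))
    · exact Or.inr (Or.inr (by rw [map_one, mul_one]; exact F.isX_t))
    · exact Or.inr (Or.inr h2')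
    · exact Or.inr (Or.inr htz)
    · exact Or.inr (Or.inr (hB.mp h2'))
  obtain ⟨K, s, hTK, hK, hs, hn, hst, hsT⟩ := F.exists_K hev
  have htc : ∀ x ∈ F.T, F.t * x = x * F.t :=
    fun x hx => (Subgroup.mem_centralizer_singleton_iff.mp (F.T_le hx)).symm
  have hac : ∀ x ∈ F.T, F.ι pA * x = x * F.ι pA :=
    fun x hx => F.ι_central_T (Or.inr (Or.inl rfl)) hx
  obtain ⟨p1, p2, p3⟩ := F.centralizes_prod hTK hK hs hsT hn F.t_mem_T htc
  have ha : F.ι pA ∈ F.T := F.ι_mem_T rfl (by decide +kernel)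
  obtain ⟨q1, q2, q3⟩ := F.centralizes_prod hTK hK hs hsT hn ha hac
  have hts : s * F.t * s⁻¹ = F.t * F.ι pZ := by
    rcases key _ p1 p2 with e | e | e
    · exact absurd ((eq_inv_of_mul_eq_one_right e).trans F.t_inv) hst
    · rw [← e, ← mul_assoc, F.t_sq, one_mul]
    · exact absurd e (F.no_central_X hK p3)
  have haa : F.ι pA * F.ι pA = 1 := by rw [← map_mul, inv2_pA.1, map_one]
  rcases key _ q1 q2 with e | e | e
  · refine F.no_central_X hK (F.centralizes_K hTK hK hs hsT hac ?_) h2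
    exact (eq_inv_of_mul_eq_one_right e).trans (inv_eq_of_mul_eq_one_right haa)
  · have has : s * F.ι pA * s⁻¹ = F.ι pA * F.ι pZ := by
      rw [← e, ← mul_assoc, haa, one_mul]
    refine F.no_central_X hK (F.centralizes_K hTK hK hs hsT ?_ ?_) h2'
    · intro x hx
      rw [mul_assoc, hac x hx, ← mul_assoc, htc x hx, mul_assoc]
    · rw [show s * (F.t * F.ι pA) * s⁻¹ = s * F.t * s⁻¹ * (s * F.ι pA * s⁻¹) by group, hts, has]
      rw [← map_mul, mul_assoc, ← map_mul]
      congr 2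
      decide +kernel
  · exact F.no_central_X hK q3 e

end Cent

end Cfsg.Agent.Lib.InvCentS7
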