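/-
An involution with centraliser `Z₂ × S₇`: only the squares fused with `t` (helper74, for S3147).
-/
import Cfsg.Agent.Lib.InvCentS7.Easy

set_option autoImplicit false

namespace Cfsg.Agent.Lib.InvCentS7

open Equiv Enc

universe u

theorem pY_cube : pY * (pY * pY) = 1 := by decide +kernel
theorem pY3_pZ' : pY3 * pZ * pY3⁻¹ = pE * pZ := by decide +kernel
theorem pY3_pE' : pY3 * pE * pY3⁻¹ = pZ := by decide +kernel

theorem mv_one : mv (1 : S7) = 0 := by decide +kernel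

theorem mul_mul_inv_comm {G : Type u} [Group G] {c x : G} (h : c * x = x * c) :
    c * x * c⁻¹ = x := by
  rw [h, mul_assoc, mul_inv_cancel, mul_one]

namespace Cent

variable {G : Type u} [Group G] (F : Cent G)

theorem twist_T : F.twist.T = F.T := by
  ext g
  rw [F.twist.mem_T, F.mem_T]
  constructor <;> rintro ⟨l, hl, h⟩ <;> refine ⟨l, hl, ?_⟩ <;>
    rw [show F.twist.ι l = F.twistHom l from rfl, show F.twist.t = F.t from rfl, twist_apply] at *
  · by_cases hs : Equiv.Perm.sign l = 1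
    · rwa [if_pos hs] at h
    · rw [if_neg hs, ← mul_assoc, F.t_sq, one_mul] at h
      exact h.symm
  · by_cases hs : Equiv.Perm.sign l = 1
    · rwa [if_pos hs]
    · rw [if_neg hs, ← mul_assoc, F.t_sq, one_mul]
      exact h.symm

/-- `W`: the elements centralising `a, z, e` and moving `t` within `t·⟨z, e⟩`. -/
def W : Subgroup G where
  carrier := {g | (g * F.ι pA = F.ι pA * g ∧ g * F.ι pZ = F.ι pZ * g ∧ g * F.ι pE = F.ι pE * g) ∧
    ∃ v : G, (v = 1 ∨ v = F.ι pZ ∨ v = F.ι pE ∨ v = F.ι (pE * pZ)) ∧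
      g * F.t * g⁻¹ = F.t * v}
  one_mem' := ⟨⟨by simp, by simp, by simp⟩, 1, Or.inl rfl, by simp⟩
  mul_mem' := by
    rintro g h ⟨⟨ga, gz, ge⟩, v, hv, gt⟩ ⟨⟨ha, hz, he⟩, w, hw, ht⟩
    refine ⟨⟨by rw [mul_assoc, ha, ← mul_assoc, ga, mul_assoc],
      by rw [mul_assoc, hz, ← mul_assoc, gz, mul_assoc],
      by rw [mul_assoc, he, ← mul_assoc, ge, mul_assoc]⟩, v * w, ?_, ?_⟩
    · have h11 : F.ι pZ * F.ι pZ = 1 := by rw [← map_mul, inv2_pZ.1, map_one]
      have h22 : F.ι pE * F.ι pE = 1 := by rw [← map_mul, inv2_pE.1, map_one]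
      have h33 : F.ι (pE * pZ) * F.ι (pE * pZ) = 1 := by
        rw [← map_mul, show pE * pZ * (pE * pZ) = 1 by decide +kernel, map_one]
      have h12 : F.ι pZ * F.ι pE = F.ι (pE * pZ) := by
        rw [← map_mul, show pZ * pE = pE * pZ by decide +kernel]
      have h21 : F.ι pE * F.ι pZ = F.ι (pE * pZ) := by rw [← map_mul]
      have h13 : F.ι pZ * F.ι (pE * pZ) = F.ι pE := by
        rw [← map_mul, show pZ * (pE * pZ) = pE by decide +kernel]
      have h31 : F.ι (pE * pZ) * F.ι pZ = F.ι pE := by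
        rw [← map_mul, show pE * pZ * pZ = pE by decide +kernel]
      have h23 : F.ι pE * F.ι (pE * pZ) = F.ι pZ := by
        rw [← map_mul, show pE * (pE * pZ) = pZ by decide +kernel]
      have h32 : F.ι (pE * pZ) * F.ι pE = F.ι pZ := by
        rw [← map_mul, show pE * pZ * pE = pZ by decide +kernel]
      rcases hv with rfl | rfl | rfl | rfl <;> rcases hw with rfl | rfl | rfl | rfl <;>
        simp only [h11, h22, h33, h12, h21, h13, h31, h23, h32, one_mul, mul_one, true_or, or_true]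
    · have hgw : g * w * g⁻¹ = w := by
        apply mul_mul_inv_comm
        rcases hw with rfl | rfl | rfl | rfl
        · simp
        · exact gz
        · exact ge
        · rw [map_mul, ← mul_assoc, ge, mul_assoc, gz, mul_assoc]
      rw [show g * h * F.t * (g * h)⁻¹ = g * (h * F.t * h⁻¹) * g⁻¹ by group, ht,
        show g * (F.t * w) * g⁻¹ = g * F.t * g⁻¹ * (g * w * g⁻¹) by group, gt, hgw, mul_assoc]
  inv_mem' := by
    rintro g ⟨⟨ga, gz, ge⟩, v, hv, gt⟩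
    refine ⟨⟨(show Commute g _ from ga).inv_left, (show Commute g _ from gz).inv_left,
      (show Commute g _ from ge).inv_left⟩, v, hv, ?_⟩
    have hgv : g * v * g⁻¹ = v := by
      apply mul_mul_inv_comm
      rcases hv with rfl | rfl | rfl | rfl
      · simp
      · exact gz
      · exact ge
      · rw [map_mul, ← mul_assoc, ge, mul_assoc, gz, mul_assoc]
    have hvv : v * v = 1 := by
      rcases hv with rfl | rfl | rfl | rfl
      · simp
      all_goals rw [← map_mul, ← map_one F.ι]; congr 1; decide +kernel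
    have : g * (F.t * v) * g⁻¹ = F.t := by
      rw [show g * (F.t * v) * g⁻¹ = g * F.t * g⁻¹ * (g * v * g⁻¹) by group, gt, hgv, mul_assoc,
        hvv, mul_one]
    calc g⁻¹ * F.t * g⁻¹⁻¹ = g⁻¹ * (g * (F.t * v) * g⁻¹) * g := by rw [this]; group
      _ = F.t * v := by group

theorem m0_aux [Finite G] (hX : ¬ 4 ∣ Nat.card {u : G // F.IsX u})
    (h0 : ¬ F.IsX (F.ι pA) ∧ ¬ F.IsX (F.t * F.ι pA) ∧ ¬ F.IsX (F.ι pT) ∧
      ¬ F.IsX (F.t * F.ι pT) ∧ ¬ F.IsX (F.ι pZ) ∧ F.IsX (F.t * F.ι pZ))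
    {K : Subgroup G} {s : G} (hTK : F.T ≤ K) (hK : Nat.card K = 64) (hs : s ∈ K)
    (hst : s * F.t * s⁻¹ = F.t * F.ι pZ) (hsa : s * F.ι pA * s⁻¹ = F.ι pA)
    (hsz : s * F.ι pZ * s⁻¹ = F.ι pZ) : False := by
  obtain ⟨n2, n2', n6, n6', n4, h4⟩ := h0
  have onlyB : ∀ m, F.IsX (F.t * F.ι m) → m = 1 ∨ Inv2 m ∧ mv m = 4 := by
    intro m hm
    by_cases e : m = 1
    · exact Or.inl e
    have hm' : Inv2 m := ⟨F.B_sq hm, e⟩
    refine Or.inr ⟨hm', ?_⟩
    rcases mv_of_inv2 hm' with h | h | h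
    · exact absurd ((F.B_class hm' inv2_pA (by rw [h, mv_pA])).mp hm) n2'
    · exact h
    · exact absurd ((F.B_class hm' inv2_pT (by rw [h, mv_pT])).mp hm) n6'
  have isB : ∀ m, Inv2 m → mv m = 4 → F.IsX (F.t * F.ι m) := fun m hm h =>
    (F.B_class hm inv2_pZ (by rw [h, mv_pZ])).mpr h4
  have hstz : ∀ m, s * (F.t * F.ι (pZ * m)) * s⁻¹ = F.t * (s * F.ι m * s⁻¹) := by
    intro m
    rw [map_mul, show s * (F.t * (F.ι pZ * F.ι m)) * s⁻¹ =
      s * F.t * s⁻¹ * (s * F.ι pZ * s⁻¹) * (s * F.ι m * s⁻¹) by group, hst, hsz,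
      mul_assoc F.t, ← map_mul, inv2_pZ.1, map_one, mul_one]
  have imgC : ∀ x : S7, x * pZ = pZ * x → s * F.ι x * s⁻¹ * F.t = F.t * (s * F.ι x * s⁻¹) ∧
      s * F.ι x * s⁻¹ * F.ι pZ = F.ι pZ * (s * F.ι x * s⁻¹) := by
    intro x hx
    have c2 : s * F.ι x * s⁻¹ * F.ι pZ = F.ι pZ * (s * F.ι x * s⁻¹) := by
      conv_lhs => rw [← hsz]
      conv_rhs => rw [← hsz]
      rw [conj_comm_iff, F.commute_iff_ι]; exact hx
    refine ⟨?_, c2⟩
    have e : F.t = s * (F.t * F.ι pZ) * s⁻¹ := by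
      rw [show s * (F.t * F.ι pZ) * s⁻¹ = s * F.t * s⁻¹ * (s * F.ι pZ * s⁻¹) by group, hst, hsz,
        mul_assoc, ← map_mul, inv2_pZ.1, map_one, mul_one]
    conv_lhs => arg 2; rw [e]
    conv_rhs => arg 1; rw [e]
    rw [conj_comm_iff]
    exact (F.tmul_commute_iff.mpr hx.symm).symm
  -- `s` normalises the subgroup generated by `y`
  obtain ⟨l, hl, hly⟩ : ∃ l, (l = pY ∨ l = pY * pY) ∧ s * F.ι pY * s⁻¹ = F.ι l := by
    obtain ⟨c3, c2⟩ := imgC pY (by decide +kernel)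
    have h3 : s * F.ι pY * s⁻¹ * (s * F.ι pY * s⁻¹ * (s * F.ι pY * s⁻¹)) = 1 := by
      rw [show s * F.ι pY * s⁻¹ * (s * F.ι pY * s⁻¹ * (s * F.ι pY * s⁻¹)) =
        s * (F.ι pY * (F.ι pY * F.ι pY)) * s⁻¹ by group, ← map_mul, ← map_mul, pY_cube, map_one]
      group
    obtain ⟨m, hm | hm⟩ := F.split _ c3
    · rw [hm] at c2 h3
      rw [← map_mul, ← map_mul, ← map_one F.ι] at h3
      refine ⟨m, order_three_comm_pZ (F.inj h3) ?_ (F.commute_iff_ι.mp c2), hm⟩
      intro e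
      rw [e, map_one, conj_eq_one_iff, ← map_one F.ι] at hm
      exact absurd (F.inj hm) (by decide +kernel)
    · rw [hm] at h3
      rw [F.tmul_tmul, mul_assoc, ← map_mul, ← map_one F.ι] at h3
      exact absurd h3 (F.tmul_ne _ _)
  have comY : ∀ {x m : S7}, x * pY = pY * x → s * F.ι x * s⁻¹ = F.ι m → m * pY = pY * m := by
    intro x m hx hm
    have h1 : F.ι m * F.ι l = F.ι l * F.ι m := by
      rw [← hm, ← hly, conj_comm_iff, F.commute_iff_ι]; exact hx
    have h2 : m * l = l * m := F.commute_iff_ι.mp h1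
    rcases hl with rfl | rfl
    · exact h2
    · have e : pY = pY * pY * (pY * pY) := by
        rw [mul_assoc pY pY, pY_cube, mul_one]
      rw [e]
      exact ((show Commute m _ from h2).mul_right h2).eq
  have comAZ : ∀ {x m : S7}, x * pA = pA * x → x * pZ = pZ * x → s * F.ι x * s⁻¹ = F.ι m →
      m * pA = pA * m ∧ m * pZ = pZ * m := by
    intro x m ha hz hm
    constructor <;> apply F.commute_iff_ι.mp
    · rw [← hm]; conv_lhs => arg 2; rw [← hsa]
      conv_rhs => arg 1; rw [← hsa]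
      rw [conj_comm_iff, F.commute_iff_ι]; exact ha
    · rw [← hm]; conv_lhs => arg 2; rw [← hsz]
      conv_rhs => arg 1; rw [← hsz]
      rw [conj_comm_iff, F.commute_iff_ι]; exact hz
  have inv2_img : ∀ {x m : S7}, Inv2 x → s * F.ι x * s⁻¹ = F.ι m → Inv2 m := by
    intro x m hx hm
    refine ⟨F.inj ?_, fun e => ?_⟩
    · rw [map_mul, ← hm, show s * F.ι x * s⁻¹ * (s * F.ι x * s⁻¹) =
        s * (F.ι x * F.ι x) * s⁻¹ by group, ← map_mul, hx.1, map_one]
      group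
    · rw [e, map_one, conj_eq_one_iff, ← map_one F.ι] at hm
      exact hx.2 (F.inj hm)
  -- an element of the other coset is mapped to the other coset
  have img : ∀ x : S7, x * pZ = pZ * x → Inv2 (pZ * x) → mv (pZ * x) = 4 →
      ∃ m, s * F.ι x * s⁻¹ = F.ι m ∧ (m = 1 ∨ Inv2 m ∧ mv m = 4) := by
    intro x hx hi h
    have hX1 := F.isX_conj (isB (pZ * x) hi h) s
    rw [hstz] at hX1
    obtain ⟨m, hm | hm⟩ := F.split _ (imgC x hx).1
    · exact ⟨m, hm, onlyB m (by rwa [← hm])⟩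
    · rw [hm, ← mul_assoc, F.t_sq, one_mul] at hX1
      have hm' := F.A_inv2 hX1
      rcases mv_of_inv2 hm' with h | h | h
      · exact absurd ((F.A_class hm' inv2_pA (by rw [h, mv_pA])).mp hX1) n2
      · exact absurd ((F.A_class hm' inv2_pZ (by rw [h, mv_pZ])).mp hX1) n4
      · exact absurd ((F.A_class hm' inv2_pT (by rw [h, mv_pT])).mp hX1) n6
  obtain ⟨σb, hσb, hsb⟩ : ∃ σ, (σ = pB ∨ σ = pC) ∧ s * F.ι pB * s⁻¹ = F.ι σ := by
    obtain ⟨m, hm, hm'⟩ := img (pA * pB) (by decide +kernel) (by rw [inv2_iff]; decide +kernel)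
      (by decide +kernel)
    have hbm : s * F.ι pB * s⁻¹ = F.ι (pA * m) := by
      rw [map_mul, ← hm, map_mul, show F.ι pA * (s * (F.ι pA * F.ι pB) * s⁻¹) =
        F.ι pA * (s * F.ι pA * s⁻¹) * (s * F.ι pB * s⁻¹) by group, hsa, ← map_mul, inv2_pA.1,
        map_one, one_mul]
    have hAm : pA * (pA * m) = m := by rw [← mul_assoc, inv2_pA.1, one_mul]
    rcases hm' with rfl | ⟨-, hm4⟩
    · rw [mul_one] at hbm
      exact absurd (F.inj (mul_left_cancel (mul_right_cancel (hbm.trans hsa.symm))))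
        (by decide +kernel)
    obtain ⟨ha', hz'⟩ := comAZ (by decide +kernel) (by decide +kernel) hbm
    refine ⟨pA * m, b_image (inv2_img inv2_pB hbm) ha' hz' (comY (by decide +kernel) hbm)
      (by rw [hAm]; exact hm4) ?_, hbm⟩
    intro e
    rw [e, pT, map_mul] at hbm
    have h5 : s * F.ι (pA * pZ) * s⁻¹ = F.ι pA * F.ι pZ := by
      rw [map_mul, show s * (F.ι pA * F.ι pZ) * s⁻¹ =
        s * F.ι pA * s⁻¹ * (s * F.ι pZ * s⁻¹) by group, hsa, hsz]
    exact absurd (F.inj (mul_left_cancel (mul_right_cancel (hbm.trans h5.symm)))) (by decide +kernel)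
  obtain ⟨σe, hσe, hse⟩ : ∃ σ, (σ = pE ∨ σ = pE * pZ) ∧ s * F.ι pE * s⁻¹ = F.ι σ := by
    obtain ⟨m, hm, hm'⟩ := img pE (by decide +kernel) (by rw [inv2_iff]; decide +kernel)
      (by decide +kernel)
    rcases hm' with rfl | ⟨hm2, hm4⟩
    · exact absurd rfl (inv2_img inv2_pE hm).2
    obtain ⟨ha', hz'⟩ := comAZ (by decide +kernel) (by decide +kernel) hm
    refine ⟨m, e_image hm2 ha' hz' (comY (by decide +kernel) hm) hm4 ?_, hm⟩
    intro e
    rw [e] at hm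
    exact absurd (F.inj (mul_left_cancel (mul_right_cancel (hm.trans hsz.symm)))) (by decide +kernel)
  -- make `s` centralise `b` and `e` as well
  obtain ⟨c, hct, hca, hcz, hcb, hce⟩ : ∃ c : S7, c * (1 : S7) = c ∧ c * pA * c⁻¹ = pA ∧
      c * pZ * c⁻¹ = pZ ∧ c * σb * c⁻¹ = pB ∧ c * σe * c⁻¹ = pE := by
    rcases hσb with rfl | rfl <;> rcases hσe with rfl | rfl
    · exact ⟨1, by simp, by simp, by simp, by simp, by simp⟩
    · exact ⟨pB, by simp, by decide +kernel, by decide +kernel, by decide +kernel, by decide +kernel⟩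
    · exact ⟨pE, by simp, by decide +kernel, by decide +kernel, by decide +kernel, by decide +kernel⟩
    · exact ⟨pE * pB, by simp, by decide +kernel, by decide +kernel, by decide +kernel,
        by decide +kernel⟩
  have conjι : ∀ {d x : S7}, ∀ g : G, ∀ {y : G}, g * y * g⁻¹ = F.ι x →
      F.ι d * g * y * (F.ι d * g)⁻¹ = F.ι (d * x * d⁻¹) := by
    intro d x g y h
    rw [show F.ι d * g * y * (F.ι d * g)⁻¹ = F.ι d * (g * y * g⁻¹) * (F.ι d)⁻¹ by group, h,
      map_mul, map_mul, map_inv]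
  set r := F.ι c * s with hr
  have hra : r * F.ι pA * r⁻¹ = F.ι pA := by rw [hr, conjι s hsa, hca]
  have hrz : r * F.ι pZ * r⁻¹ = F.ι pZ := by rw [hr, conjι s hsz, hcz]
  have hre : r * F.ι pE * r⁻¹ = F.ι pE := by rw [hr, conjι s hse, hce]
  have ht : F.ι c * F.t * (F.ι c)⁻¹ = F.t := mul_mul_inv_comm (F.comm c)
  have hrt : r * F.t * r⁻¹ = F.t * F.ι pZ := by
    rw [hr, show F.ι c * s * F.t * (F.ι c * s)⁻¹ = F.ι c * (s * F.t * s⁻¹) * (F.ι c)⁻¹ by group,
      hst, show F.ι c * (F.t * F.ι pZ) * (F.ι c)⁻¹ =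
      F.ι c * F.t * (F.ι c)⁻¹ * (F.ι c * F.ι pZ * (F.ι c)⁻¹) by group, ht, ← map_inv, ← map_mul,
      ← map_mul, hcz]
  set y := F.ι pY3 with hy
  have hyt : y * F.t * y⁻¹ = F.t := mul_mul_inv_comm (F.comm pY3)
  have hyι : ∀ x, y * F.ι x * y⁻¹ = F.ι (pY3 * x * pY3⁻¹) := fun x => by
    rw [hy, map_mul, map_mul, map_inv]
  set r' := y * r * y⁻¹ with hr'
  have hr'ι : ∀ {x : S7}, r * F.ι x * r⁻¹ = F.ι x →
      r' * F.ι (pY3 * x * pY3⁻¹) * r'⁻¹ = F.ι (pY3 * x * pY3⁻¹) := by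
    intro x hx
    rw [← hyι, hr', show y * r * y⁻¹ * (y * F.ι x * y⁻¹) * (y * r * y⁻¹)⁻¹ =
      y * (r * F.ι x * r⁻¹) * y⁻¹ by group, hx]
  have hpA : pY3 * pA * pY3⁻¹ = pA := mul_mul_inv_comm pY3_comm
  have hr'a : r' * F.ι pA * r'⁻¹ = F.ι pA := by
    have := hr'ι hra; rwa [hpA] at this
  have hr'z : r' * F.ι pZ * r'⁻¹ = F.ι pZ := by
    have := hr'ι hre; rwa [pY3_pE'] at this
  have hr'e : r' * F.ι pE * r'⁻¹ = F.ι pE := by
    have := hr'ι hrz
    rw [pY3_pZ', map_mul, show r' * (F.ι pE * F.ι pZ) * r'⁻¹ =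
      r' * F.ι pE * r'⁻¹ * (r' * F.ι pZ * r'⁻¹) by group, hr'z] at this
    exact mul_right_cancel this
  have hr't : r' * F.t * r'⁻¹ = F.t * F.ι (pE * pZ) := by
    conv_lhs => rw [← hyt]
    rw [hr', show y * r * y⁻¹ * (y * F.t * y⁻¹) * (y * r * y⁻¹)⁻¹ = y * (r * F.t * r⁻¹) * y⁻¹ by
      group, hrt, show y * (F.t * F.ι pZ) * y⁻¹ = y * F.t * y⁻¹ * (y * F.ι pZ * y⁻¹) by group,
      hyt, hyι, pY3_pZ']
  have hrW : r ∈ F.W := ⟨⟨mul_inv_eq_iff_eq_mul.mp hra, mul_inv_eq_iff_eq_mul.mp hrz,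
    mul_inv_eq_iff_eq_mul.mp hre⟩, _, Or.inr (Or.inl rfl), hrt⟩
  have hr'W : r' ∈ F.W := ⟨⟨mul_inv_eq_iff_eq_mul.mp hr'a, mul_inv_eq_iff_eq_mul.mp hr'z,
    mul_inv_eq_iff_eq_mul.mp hr'e⟩, _, Or.inr (Or.inr (Or.inr rfl)), hr't⟩
  obtain ⟨d, hd, hdW⟩ : ∃ d, (d * F.t * d⁻¹ = F.t * F.ι pE) ∧ d ∈ F.W := by
    refine ⟨r' * r, ?_, F.W.mul_mem hr'W hrW⟩
    rw [show r' * r * F.t * (r' * r)⁻¹ = r' * (r * F.t * r⁻¹) * r'⁻¹ by group, hrt,
      show r' * (F.t * F.ι pZ) * r'⁻¹ = r' * F.t * r'⁻¹ * (r' * F.ι pZ * r'⁻¹) by group, hr't,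
      hr'z, mul_assoc, ← map_mul, show pE * pZ * pZ = pE by decide +kernel]
  -- `W` has order 64
  let B := {σ : S7 // σ * pA = pA * σ ∧ σ * pZ = pZ * σ ∧ σ * pE = pE * σ}
  let D := {g : G // g ∈ F.W ∧ g * F.t = F.t * g}
  have hD : Nat.card D = 16 := by
    have e16 : Nat.card (Bool × B) = 16 := by
      rw [Nat.card_prod, show Nat.card B = 8 from card_cent_aze]; simp
    rw [← e16]
    have mem : ∀ p : Bool × B, ((F.equivC (p.1, p.2.1) : G) ∈ F.W ∧
        (F.equivC (p.1, p.2.1) : G) * F.t = F.t * (F.equivC (p.1, p.2.1) : G)) := by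
      intro p
      have h := Subgroup.mem_centralizer_singleton_iff.mp (F.equivC (p.1, p.2.1)).2
      refine ⟨⟨?_, 1, Or.inl rfl, ?_⟩, h⟩
      · rw [equivC_apply]
        cases p.1
        · exact ⟨F.commute_iff_ι.mpr p.2.2.1, F.commute_iff_ι.mpr p.2.2.2.1,
            F.commute_iff_ι.mpr p.2.2.2.2⟩
        · exact ⟨F.tmul_commute_iff.mpr p.2.2.1, F.tmul_commute_iff.mpr p.2.2.2.1,
            F.tmul_commute_iff.mpr p.2.2.2.2⟩
      · rw [mul_one]; exact mul_mul_inv_comm h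
    refine (Nat.card_congr (Equiv.ofBijective (fun p => (⟨_, mem p⟩ : D)) ⟨?_, ?_⟩)).symm
    · rintro ⟨i, m⟩ ⟨j, n⟩ h
      have h' : F.equivC (i, m.1) = F.equivC (j, n.1) := Subtype.ext (congrArg Subtype.val h :)
      have h'' := F.equivC.injective h'
      simp only [Prod.mk.injEq] at h''
      exact Prod.ext h''.1 (Subtype.ext h''.2)
    · rintro ⟨g, ⟨⟨ga, gz, ge⟩, -⟩, hgt⟩
      obtain ⟨m, rfl | rfl⟩ := F.split g hgt
      · exact ⟨(false, ⟨m, F.commute_iff_ι.mp ga, F.commute_iff_ι.mp gz, F.commute_iff_ι.mp ge⟩),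
          Subtype.ext (by simp [equivC_apply])⟩
      · exact ⟨(true, ⟨m, F.tmul_commute_iff.mp ga, F.tmul_commute_iff.mp gz,
          F.tmul_commute_iff.mp ge⟩), Subtype.ext (by simp [equivC_apply])⟩
  have hne4 : (1 : S7) ≠ pZ ∧ (1 : S7) ≠ pE ∧ (1 : S7) ≠ pE * pZ ∧ pZ ≠ pE ∧ pZ ≠ pE * pZ ∧
      pE ≠ pE * pZ := by decide +kernel
  let rep : Bool × Bool → G := fun i => match i with
    | (false, false) => 1
    | (true, false) => r
    | (false, true) => d
    | (true, true) => r'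
  let vv : Bool × Bool → S7 := fun i => match i with
    | (false, false) => 1
    | (true, false) => pZ
    | (false, true) => pE
    | (true, true) => pE * pZ
  have hrep : ∀ i, rep i ∈ F.W ∧ rep i * F.t * (rep i)⁻¹ = F.t * F.ι (vv i) := by
    rintro ⟨_ | _, _ | _⟩
    · exact ⟨F.W.one_mem, by simp [rep, vv]⟩
    · exact ⟨hdW, hd⟩
    · exact ⟨hrW, hrt⟩
    · exact ⟨hr'W, hr't⟩
  have hvv : Function.Injective vv := by
    rintro ⟨_ | _, _ | _⟩ ⟨_ | _, _ | _⟩ h <;> first | rfl | (simp only [vv] at h; tauto) |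
      (simp only [vv] at h; have := h.symm; tauto)
  have hW : Nat.card F.W = 2 ^ 6 := by
    have e64 : Nat.card ((Bool × Bool) × D) = 2 ^ 6 := by
      rw [Nat.card_prod, hD]; simp
    rw [← e64]
    refine (Nat.card_congr (Equiv.ofBijective
      (fun p : (Bool × Bool) × D => (⟨rep p.1 * p.2.1, F.W.mul_mem (hrep p.1).1 p.2.2.1⟩ : F.W))
      ⟨?_, ?_⟩)).symm
    · rintro ⟨i, g, hg⟩ ⟨j, g', hg'⟩ h
      have h' : rep i * g = rep j * g' := congrArg Subtype.val h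
      have hi : i = j := by
        apply hvv; apply F.tmul_inj
        rw [← (hrep i).2, ← (hrep j).2]
        calc rep i * F.t * (rep i)⁻¹ = rep i * (g * F.t * g⁻¹) * (rep i)⁻¹ := by
              rw [mul_mul_inv_comm hg.2]
          _ = (rep i * g) * F.t * (rep i * g)⁻¹ := by group
          _ = (rep j * g') * F.t * (rep j * g')⁻¹ := by rw [h']
          _ = rep j * (g' * F.t * g'⁻¹) * (rep j)⁻¹ := by group
          _ = rep j * F.t * (rep j)⁻¹ := by rw [mul_mul_inv_comm hg'.2]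
      subst hi
      exact Prod.ext rfl (Subtype.ext (mul_left_cancel h'))
    · rintro ⟨g, hg⟩
      obtain ⟨v, hv, hgt⟩ := hg.2
      obtain ⟨i, rfl⟩ : ∃ i, F.ι (vv i) = v := by
        rcases hv with rfl | rfl | rfl | rfl
        · exact ⟨(false, false), map_one _⟩
        · exact ⟨(true, false), rfl⟩
        · exact ⟨(false, true), rfl⟩
        · exact ⟨(true, true), rfl⟩
      refine ⟨(i, ⟨(rep i)⁻¹ * g, F.W.mul_mem (F.W.inv_mem (hrep i).1) hg, ?_⟩), Subtype.ext ?_⟩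
      · apply mul_inv_eq_iff_eq_mul.mp
        rw [show (rep i)⁻¹ * g * F.t * ((rep i)⁻¹ * g)⁻¹ =
          (rep i)⁻¹ * (g * F.t * g⁻¹) * rep i by group, hgt, ← (hrep i).2]
        group
      · show rep i * ((rep i)⁻¹ * g) = g
        group
  have hfull : ¬ 2 ^ (6 + 1) ∣ Nat.card G := by
    rw [← F.card_G]
    intro h
    apply hX
    omega
  obtain ⟨g, hg⟩ := Tools.conj_of_card hW (by rw [hK]; norm_num : Nat.card K = 2 ^ 6) hfull
  -- the eight central elements of `W`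
  have hsT : s ∉ F.T := fun h => by
    have h1 := mul_inv_eq_iff_eq_mul.mpr (Subgroup.mem_centralizer_singleton_iff.mp (F.T_le h))
    rw [hst] at h1
    have h2 : F.t * F.ι pZ = F.t * F.ι 1 := by rw [h1, map_one, mul_one]
    exact inv2_pZ.2 (F.tmul_inj h2)
  let Z8 := {σ : S7 // σ * pA = pA * σ ∧ σ * pZ = pZ * σ ∧ σ * pE = pE * σ}
  have hZW : ∀ σ : Z8, F.ι σ.1 ∈ F.W ∧ ∀ x ∈ F.W, F.ι σ.1 * x = x * F.ι σ.1 := by
    intro σ
    refine ⟨⟨⟨F.commute_iff_ι.mpr σ.2.1, F.commute_iff_ι.mpr σ.2.2.1,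
      F.commute_iff_ι.mpr σ.2.2.2⟩, 1, Or.inl rfl, by
        rw [mul_one]; exact mul_mul_inv_comm (F.comm _)⟩, ?_⟩
    rintro x ⟨⟨xa, xz, xe⟩, -⟩
    have ha : Commute (F.ι pA) x := (show Commute x _ from xa).symm
    have hz : Commute (F.ι pZ) x := (show Commute x _ from xz).symm
    have he : Commute (F.ι pE) x := (show Commute x _ from xe).symm
    have h1 : Commute (F.ι 1) x := by rw [map_one]; exact Commute.one_left x
    have hmem := cent_aze σ.2.1 σ.2.2.1 σ.2.2.2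
    simp only [List.mem_cons, List.not_mem_nil, or_false] at hmem
    rcases hmem with e | e | e | e | e | e | e | e <;> rw [e] <;>
      (try simp only [pT, map_mul])
    · exact h1
    · exact ha
    · exact hz
    · exact ha.mul_left hz
    · exact he
    · exact ha.mul_left he
    · exact he.mul_left hz
    · exact (ha.mul_left he).mul_left hz
  -- central elements of `K`
  have hcenK : ∀ w ∈ K, (∀ x ∈ K, w * x = x * w) →
      ∃ m : ({1, pA, pZ, pT} : Finset S7), w = F.ι m.1 := by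
    intro w hw hcw
    have hwt : w * F.t = F.t * w := hcw _ (hTK F.t_mem_T)
    have hwT : w ∈ F.T := by
      rw [Cent.T, Subgroup.mem_centralizer_iff]
      simp only [Set.mem_insert_iff, Set.mem_singleton_iff, forall_eq_or_imp, forall_eq]
      exact ⟨hwt.symm, (hcw _ (hTK (F.ι_mem_T rfl (by decide +kernel)))).symm,
        (hcw _ (hTK (F.ι_mem_T (by decide +kernel) rfl))).symm⟩
    obtain ⟨m, hm, hwm⟩ := F.central_T hwT (fun x hx => hcw x (hTK hx))
    have hmF : m ∈ ({1, pA, pZ, pT} : Finset S7) := by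
      simp only [Finset.mem_insert, Finset.mem_singleton]; exact hm
    rcases hwm with e | e
    · exact ⟨⟨m, hmF⟩, e⟩
    exfalso
    have hfix : s * F.ι m * s⁻¹ = F.ι m := by
      rcases hm with rfl | rfl | rfl | rfl
      · simp
      · exact hsa
      · exact hsz
      · rw [pT, map_mul, show s * (F.ι pA * F.ι pZ) * s⁻¹ =
          s * F.ι pA * s⁻¹ * (s * F.ι pZ * s⁻¹) by group, hsa, hsz]
    have h1 := mul_inv_eq_iff_eq_mul.mpr (hcw s hs).symm
    rw [e, show s * (F.t * F.ι m) * s⁻¹ = s * F.t * s⁻¹ * (s * F.ι m * s⁻¹) by group, hst, hfix,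
      mul_assoc, ← map_mul] at h1
    exact inv2_pZ.2 (mul_eq_right.mp (F.tmul_inj h1))
  have key : ∀ σ : Z8, ∃ m : ({1, pA, pZ, pT} : Finset S7), g * F.ι σ.1 * g⁻¹ = F.ι m.1 := by
    intro σ
    obtain ⟨h1, h2⟩ := hZW σ
    refine hcenK _ (hg _ h1) fun x hx => ?_
    haveI : Finite F.W := inferInstance
    obtain ⟨w, hw⟩ : ∃ w : F.W, g * w.1 * g⁻¹ = x := by
      let Φ : F.W → K := fun w => ⟨g * w.1 * g⁻¹, hg _ w.2⟩
      have hΦ : Function.Bijective Φ := (Nat.bijective_iff_injective_and_card Φ).mpr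
        ⟨fun a b e => Subtype.ext (mul_left_cancel (mul_right_cancel (congrArg Subtype.val e :))),
          by rw [hW, hK]; norm_num⟩
      obtain ⟨w, hw⟩ := hΦ.2 ⟨x, hx⟩
      exact ⟨w, congrArg Subtype.val hw⟩
    rw [← hw, conj_comm_iff]
    exact h2 _ w.2
  choose f hf using key
  have hfi : Function.Injective f := by
    intro a b e
    have := (hf a).trans ((congrArg (fun m : ({1, pA, pZ, pT} : Finset S7) => F.ι m.1) e).trans
      (hf b).symm)
    exact Subtype.ext (F.inj (mul_left_cancel (mul_right_cancel this)))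
  have := Nat.card_le_card_of_injective f hfi
  rw [show Nat.card Z8 = 8 from card_cent_aze, Nat.card_eq_fintype_card, Fintype.card_coe] at this
  have h4' : ({1, pA, pZ, pT} : Finset S7).card ≤ 4 := Finset.card_le_four
  omega

/-- Only `t ι l`, `l` a double transposition, are conjugate to `t` in `C(t) \ {t}`: impossible. -/
theorem no_m0 [Finite G] (hG : ¬ ∃ H : Subgroup G, H.index = 2) (h2 : ¬ F.IsX (F.ι pA))
    (h2' : ¬ F.IsX (F.t * F.ι pA)) : False := by
  have hev := F.not_odd hG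
  obtain ⟨htz, hA, hB, h4⟩ := F.even_case hG hev
  have hz := F.not_IsX_z hG hev
  have n6 : ¬ F.IsX (F.ι pT) := fun h => h2 (hA.mpr h)
  have n6' : ¬ F.IsX (F.t * F.ι pT) := fun h => h2' (hB.mpr h)
  have hX : ¬ 4 ∣ Nat.card {u : G // F.IsX u} := fun h => (h4.mp h) (iff_of_false h2 h2')
  obtain ⟨K, s, hTK, hK, hs, hn, hst, hsT⟩ := F.exists_K hev
  have hsz := F.z_fixed hn
  have hsq := F.sq_mem_T hTK hK hs
  have central_img : ∀ w ∈ F.T, (∀ x ∈ F.T, w * x = x * w) →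
      ∃ l, (l = 1 ∨ l = pA ∨ l = pZ ∨ l = pT) ∧
        (s * w * s⁻¹ = F.ι l ∨ s * w * s⁻¹ = F.t * F.ι l) := by
    intro w hw hc
    refine F.central_T (hn w hw) fun x hx => ?_
    have hy : s⁻¹ * x * s ∈ F.T := by
      have h1 : (s * s)⁻¹ * (s * x * s⁻¹) * (s * s) ∈ F.T :=
        F.T.mul_mem (F.T.mul_mem (F.T.inv_mem hsq) (hn x hx)) hsq
      rwa [show (s * s)⁻¹ * (s * x * s⁻¹) * (s * s) = s⁻¹ * x * s by group] at h1
    have := (conj_comm_iff s _ _).mpr (hc _ hy)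
    rwa [show s * (s⁻¹ * x * s) * s⁻¹ = x by group] at this
  have htc : ∀ x ∈ F.T, F.t * x = x * F.t :=
    fun x hx => (Subgroup.mem_centralizer_singleton_iff.mp (F.T_le hx)).symm
  have hts : s * F.t * s⁻¹ = F.t * F.ι pZ := by
    obtain ⟨l, hl, e⟩ := central_img _ F.t_mem_T htc
    have hXs := F.isX_conj F.isX_t s
    rcases e with e | e <;> rw [e] at hXs hst ⊢ <;> rcases hl with rfl | rfl | rfl | rfl
    · exact absurd (map_one F.ι) (F.isX_ne hXs)
    · exact absurd hXs h2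
    · exact absurd hXs hz
    · exact absurd hXs n6
    · exact absurd (by rw [map_one, mul_one]) hst
    · exact absurd hXs h2'
    · rfl
    · exact absurd hXs n6'
  have ha : F.ι pA ∈ F.T := F.ι_mem_T rfl (by decide +kernel)
  have hac : ∀ x ∈ F.T, F.ι pA * x = x * F.ι pA :=
    fun x hx => F.ι_central_T (Or.inr (Or.inl rfl)) hx
  have h2s : s * (s * F.ι pA * s⁻¹) * s⁻¹ = F.ι pA := by
    rw [show s * (s * F.ι pA * s⁻¹) * s⁻¹ = s * s * F.ι pA * (s * s)⁻¹ by group,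
      mul_mul_inv_comm (hac _ hsq).symm]
  obtain ⟨l, hl, e⟩ := central_img _ ha hac
  rcases e with e | e <;> rcases hl with rfl | rfl | rfl | rfl
  · rw [map_one, conj_eq_one_iff, ← map_one F.ι] at e
    exact inv2_pA.2 (F.inj e)
  · exact F.m0_aux hX ⟨h2, h2', n6, n6', hz, htz⟩ hTK hK hs hts e hsz
  · exact absurd (F.inj (mul_left_cancel (mul_right_cancel (e.trans hsz.symm)))) (by decide +kernel)
  · -- pass to the twisted splitting
    have tA : F.twist.ι pA = F.t * F.ι pA := F.twist_odd inv2_pA (by rw [mv_pA]; decide)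
    have tT : F.twist.ι pT = F.t * F.ι pT := F.twist_odd inv2_pT (by rw [mv_pT]; decide)
    have tZ : F.twist.ι pZ = F.ι pZ := F.twist_even inv2_pZ mv_pZ
    refine F.twist.m0_aux hX ?_ (K := K) (s := s) (by rw [F.twist_T]; exact hTK) hK hs ?_ ?_ ?_
    · show ¬ F.IsX (F.twist.ι pA) ∧ ¬ F.IsX (F.t * F.twist.ι pA) ∧ ¬ F.IsX (F.twist.ι pT) ∧
        ¬ F.IsX (F.t * F.twist.ι pT) ∧ ¬ F.IsX (F.twist.ι pZ) ∧ F.IsX (F.t * F.twist.ι pZ)
      rw [tA, tT, tZ, ← mul_assoc, ← mul_assoc, F.t_sq, one_mul, one_mul]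
      exact ⟨h2', h2, n6', n6, hz, htz⟩
    · show s * F.t * s⁻¹ = F.t * F.twist.ι pZ
      rw [tZ]; exact hts
    · rw [tA, show s * (F.t * F.ι pA) * s⁻¹ = s * F.t * s⁻¹ * (s * F.ι pA * s⁻¹) by group, hts, e,
        mul_assoc, ← map_mul]
      congr 2
      decide +kernel
    · rw [tZ]; exact hsz
  · rw [map_one, mul_one] at e
    rw [e, hts] at h2s
    exact F.tmul_ne _ _ h2s
  · rw [e, show s * (F.t * F.ι pA) * s⁻¹ = s * F.t * s⁻¹ * (s * F.ι pA * s⁻¹) by group, hts, e,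
      mul_assoc, ← mul_assoc (F.ι pZ), F.comm, mul_assoc, ← mul_assoc, F.t_sq, one_mul,
      ← map_mul] at h2s
    exact absurd (F.inj h2s) (by decide +kernel)
  · rw [e, show s * (F.t * F.ι pZ) * s⁻¹ = s * F.t * s⁻¹ * (s * F.ι pZ * s⁻¹) by group, hts, hsz,
      mul_assoc, ← map_mul, inv2_pZ.1, map_one, mul_one] at h2s
    exact F.t_not pA h2s.symm
  · rw [e, pT, map_mul, show s * (F.t * (F.ι pA * F.ι pZ)) * s⁻¹ =
      s * F.t * s⁻¹ * (s * F.ι pA * s⁻¹) * (s * F.ι pZ * s⁻¹) by group, hts, hsz, e, pT,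
      mul_assoc F.t (F.ι pZ), ← mul_assoc (F.ι pZ) F.t, F.comm, mul_assoc F.t (F.ι pZ),
      ← mul_assoc F.t F.t, F.t_sq, one_mul, ← map_mul, ← map_mul] at h2s
    exact absurd (F.inj h2s) (by decide +kernel)

end Cent

end Cfsg.Agent.Lib.InvCentS7
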