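/-
An involution with centraliser `Z₂ × S₇`: all `t ι l` are conjugate to `t`, no `ι l` is
(helper74, for S3147).  First part: `t` and `t ι l` are interchangeable over `C(l)`.
-/
import Cfsg.Agent.Lib.InvCentS7.MZero

set_option autoImplicit false

namespace Cfsg.Agent.Lib.InvCentS7

open Equiv Enc

universe u

/-- Conjugation. -/
def cj {G : Type u} [Group G] (g x : G) : G := g * x * g⁻¹

section cj

variable {G : Type u} [Group G] (g h x y : G)

theorem cj_mul : cj g (x * y) = cj g x * cj g y := by simp only [cj]; group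
theorem cj_one : cj g (1 : G) = 1 := by simp [cj]
theorem cj_cj : cj g (cj h x) = cj (g * h) x := by simp only [cj]; group
theorem cj_inv_cj : cj g⁻¹ (cj g x) = x := by simp only [cj]; group
theorem cj_cj_inv : cj g (cj g⁻¹ x) = x := by simp only [cj]; group
theorem one_cj : cj 1 x = x := by simp [cj]

variable {g h x y}

theorem cj_inj (e : cj g x = cj g y) : x = y := mul_left_cancel (mul_right_cancel e)
theorem cj_eq_iff : cj g x = x ↔ g * x = x * g := mul_inv_eq_iff_eq_mul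
theorem cj_of_comm (e : g * x = x * g) : cj g x = x := cj_eq_iff.mpr e
theorem cj_comm_iff : cj g x * cj g y = cj g y * cj g x ↔ x * y = y * x := conj_comm_iff g x y
theorem cj_symm (e : cj g x = y) : cj g⁻¹ y = x := by rw [← e, cj_inv_cj]

end cj

theorem pB_eq_s1 : pB = s1 := rfl
theorem pC_eq_s3 : pC = s3 := rfl

theorem pE_word : pE = s1 * s2 * s1 * (s2 * s3 * s2) := by decide +kernel

theorem inv2_s : Inv2 s1 ∧ Inv2 s2 ∧ Inv2 s3 ∧ Inv2 s4 := by
  simp only [inv2_iff]; decide +kernel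

theorem card_cent_mv {l : S7} (hl : Inv2 l) :
    Nat.card {σ : S7 // σ * l = l * σ} = if mv l = 2 then 240 else 48 := by
  obtain ⟨r, hr, hcard, hm⟩ : ∃ r, Inv2 r ∧
      Nat.card {σ : S7 // σ * r = r * σ} = (if mv l = 2 then 240 else 48) ∧ mv r = mv l := by
    rcases mv_of_inv2 hl with e | e | e
    · exact ⟨pA, inv2_pA, by rw [e, if_pos rfl, card_cent_pA], by rw [mv_pA, e]⟩
    · exact ⟨pZ, inv2_pZ, by rw [e, if_neg (by decide), card_cent_pZ], by rw [mv_pZ, e]⟩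
    · exact ⟨pT, inv2_pT, by rw [e, if_neg (by decide), card_cent_pT], by rw [mv_pT, e]⟩
  obtain ⟨c, hc⟩ := exists_conj hr hl hm
  rw [← hcard]
  refine (Nat.card_congr ((MulAut.conj c).toEquiv.subtypeEquiv fun σ => ?_)).symm
  simp only [MulEquiv.toEquiv_eq_coe, MulEquiv.coe_toEquiv, MulAut.conj_apply, ← hc,
    conj_comm_iff]

namespace Cent

variable {G : Type u} [Group G] (F : Cent G)

/-- All `t ι l` (`l² = 1`) and no `ι l` are conjugate to `t`. -/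
structure IsD : Prop where
  hA : ∀ l, ¬ F.IsX (F.ι l)
  hB : ∀ l, l * l = 1 → F.IsX (F.t * F.ι l)

/-- `k` is a member of the class with `n` moved points in the centraliser of `u`. -/
def ty (n : ℕ) (u k : G) : Prop :=
  ∃ g l, Inv2 l ∧ mv l = n ∧ cj g F.t = u ∧ cj g (F.ι l) = k

theorem isX_cj {x : G} (g : G) : F.IsX (cj g x) ↔ F.IsX x := F.isX_conj_iff x g

theorem exists_cj {u : G} (h : F.IsX u) : ∃ g, cj g F.t = u := isConj_iff.mp h

theorem ty_cj {n : ℕ} {u k : G} (g : G) (h : F.ty n u k) : F.ty n (cj g u) (cj g k) := by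
  obtain ⟨c, l, hl, hn, h1, h2⟩ := h
  exact ⟨g * c, l, hl, hn, by rw [← cj_cj, h1], by rw [← cj_cj, h2]⟩

theorem ty_cj_iff {n : ℕ} {u k : G} (g : G) : F.ty n (cj g u) (cj g k) ↔ F.ty n u k := by
  refine ⟨fun h => ?_, F.ty_cj g⟩
  have := F.ty_cj g⁻¹ h
  rwa [cj_inv_cj, cj_inv_cj] at this

theorem ty_t {l : S7} (hl : Inv2 l) : F.ty (mv l) F.t (F.ι l) :=
  ⟨1, l, hl, rfl, one_cj _, one_cj _⟩

theorem cj_ι (c l : S7) : cj (F.ι c) (F.ι l) = F.ι (c * l * c⁻¹) := by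
  rw [cj, map_mul, map_mul, map_inv]

theorem cj_ι_t (c : S7) : cj (F.ι c) F.t = F.t := cj_of_comm (F.comm c)

theorem cj_t_ι (l : S7) : cj F.t (F.ι l) = F.ι l := cj_of_comm (F.comm l).symm

theorem cj_tι_ι (c l : S7) : cj (F.t * F.ι c) (F.ι l) = F.ι (c * l * c⁻¹) := by
  rw [← cj_cj, F.cj_ι, F.cj_t_ι]

theorem ty_t_elim {n : ℕ} {k : G} (h : F.ty n F.t k) :
    ∃ l, Inv2 l ∧ mv l = n ∧ k = F.ι l := by
  obtain ⟨g, l, hl, hn, h1, h2⟩ := h
  obtain ⟨c, rfl | rfl⟩ := F.split g (cj_eq_iff.mp h1)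
  · exact ⟨_, inv2_conj hl c, by rw [mv_conj, hn], by rw [← h2, F.cj_ι]⟩
  · exact ⟨_, inv2_conj hl c, by rw [mv_conj, hn], by rw [← h2, F.cj_tι_ι]⟩

theorem ty_t_iff {n : ℕ} {l : S7} (hl : Inv2 l) : F.ty n F.t (F.ι l) ↔ mv l = n := by
  refine ⟨fun h => ?_, fun h => h ▸ F.ty_t hl⟩
  obtain ⟨m, -, hm, e⟩ := F.ty_t_elim h
  rw [F.inj e, hm]

theorem ty_unique {n m : ℕ} {u k : G} (h : F.ty n u k) (h' : F.ty m u k) : n = m := by
  obtain ⟨g, l, hl, hn, h1, h2⟩ := h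
  rw [← h1, ← h2, F.ty_cj_iff, F.ty_t_iff hl] at h'
  omega

theorem ty_isX {n : ℕ} {u k : G} (h : F.ty n u k) : F.IsX u := by
  obtain ⟨g, l, -, -, h1, -⟩ := h
  rw [← h1, isX_cj]; exact F.isX_t

theorem ty_comm {n : ℕ} {u k : G} (h : F.ty n u k) : k * u = u * k := by
  obtain ⟨g, l, -, -, h1, h2⟩ := h
  rw [← h1, ← h2, cj_comm_iff]; exact F.comm l

theorem ty_sq {n : ℕ} {u k : G} (h : F.ty n u k) : k * k = 1 ∧ k ≠ 1 := by
  obtain ⟨g, l, hl, -, -, h2⟩ := h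
  refine ⟨by rw [← h2, ← cj_mul, ← map_mul, hl.1, map_one, cj_one], fun e => hl.2 (F.inj ?_)⟩
  rw [map_one]
  exact cj_inj (h2.trans (e.trans (cj_one g).symm))

variable (hD : F.IsD)
include hD

theorem isX_tι_iff {l : S7} : F.IsX (F.t * F.ι l) ↔ l * l = 1 := ⟨F.B_sq, hD.hB l⟩

theorem exists_ι {x : G} (hc : x * F.t = F.t * x) (h2 : x * x = 1) (h1 : x ≠ 1)
    (hX : ¬ F.IsX x) : ∃ l, Inv2 l ∧ x = F.ι l := by
  obtain ⟨l, rfl | rfl⟩ := F.split x hc
  · exact ⟨l, ⟨F.inj (by rw [map_mul, h2, map_one]), fun e => h1 (by rw [e, map_one])⟩, rfl⟩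
  · rw [F.tmul_tmul, ← map_one F.ι] at h2
    exact absurd (hD.hB l (F.inj h2)) hX

/-- Pulling back along `g`. -/
theorem exists_pull {g x : G} (hc : x * cj g F.t = cj g F.t * x) (h2 : x * x = 1) (h1 : x ≠ 1)
    (hX : ¬ F.IsX x) : ∃ l, Inv2 l ∧ cj g (F.ι l) = x := by
  obtain ⟨l, hl, e⟩ := F.exists_ι hD (x := cj g⁻¹ x)
    (by rw [← cj_comm_iff (g := g), cj_cj_inv]; exact hc)
    (by rw [← cj_mul, h2, cj_one])
    (fun e => h1 (by rw [← cj_cj_inv g x, e, cj_one]))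
    (by rwa [isX_cj])
  exact ⟨l, hl, by rw [← e, cj_cj_inv]⟩

theorem pull_ι {g : G} {l : S7} (hl : Inv2 l) (hc : F.ι l * cj g F.t = cj g F.t * F.ι l) :
    ∃ m, Inv2 m ∧ cj g (F.ι m) = F.ι l :=
  F.exists_pull hD hc (by rw [← map_mul, hl.1, map_one])
    (fun e => hl.2 (F.inj (by rw [e, map_one]))) (hD.hA l)

theorem exists_ty {u : G} {l : S7} (hu : F.IsX u) (hl : Inv2 l)
    (hc : F.ι l * u = u * F.ι l) : ∃ n, F.ty n u (F.ι l) := by
  obtain ⟨g, rfl⟩ := F.exists_cj hu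
  obtain ⟨m, hm, e⟩ := F.pull_ι hD hl hc
  exact ⟨mv m, g, m, hm, rfl, rfl, e⟩

omit hD in
theorem centPair_ty {n : ℕ} {u k : G} (h : F.ty n u k) :
    centPair u k = if n = 2 then 480 else 96 := by
  obtain ⟨g, l, hl, hn, h1, h2⟩ := h
  rw [← h1, ← h2, cj, cj, centPair_conj, F.centPair_ι, card_cent_mv hl, hn]
  split_ifs <;> rfl

omit hD in
theorem centPair_mul_self (l : S7) : centPair (F.t * F.ι l) (F.ι l) = centPair F.t (F.ι l) := by
  refine Nat.card_congr (Equiv.subtypeEquivRight fun g => and_congr_left fun hg => ?_)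
  constructor <;> intro h
  · rw [← mul_assoc, mul_assoc F.t, ← hg, ← mul_assoc] at h
    exact mul_right_cancel h
  · rw [← mul_assoc, h, mul_assoc, hg, mul_assoc]

/-- An element carrying `(t, ι l)` to `(t ι l, ι l)`. -/
theorem exists_swap {l : S7} (hl : Inv2 l) :
    ∃ g, cj g F.t = F.t * F.ι l ∧ cj g (F.ι l) = F.ι l := by
  have hX : F.IsX (F.t * F.ι l) := hD.hB l hl.1
  obtain ⟨g, hg⟩ := F.exists_cj hX
  obtain ⟨m, hm, em⟩ := F.pull_ι hD (g := g) hl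
    (by rw [hg]; exact (F.tmul_commute_iff.mpr rfl).symm)
  have hcp := F.centPair_ty (n := mv m) ⟨g, m, hm, rfl, hg, em⟩
  rw [F.centPair_mul_self, F.centPair_ty (F.ty_t hl)] at hcp
  have sq1 : mv l = 4 → mv m = 4 := by
    intro h
    obtain ⟨r, hr⟩ := exists_sqrt hl h
    have hrl : r * l = l * r := by rw [← hr, mul_assoc]
    have hc : F.ι r * (F.t * F.ι l) = F.t * F.ι l * F.ι r :=
      (F.tmul_commute_iff.mpr hrl.symm).symm
    obtain ⟨q, hq | hq⟩ := F.split (cj g⁻¹ (F.ι r)) (by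
      rw [← cj_comm_iff (g := g), cj_cj_inv, hg]; exact hc)
    all_goals
      have e : cj g⁻¹ (F.ι r) * cj g⁻¹ (F.ι r) = F.ι m := by
        rw [← cj_mul, ← map_mul, hr]; exact cj_symm em
      rw [hq] at e
    · rw [← map_mul] at e
      have e' := F.inj e
      rw [← e'] at hm ⊢
      exact sq_inv2 hm
    · rw [F.tmul_tmul] at e
      have e' := F.inj e
      rw [← e'] at hm ⊢
      exact sq_inv2 hm
  have sq2 : mv m = 4 → mv l = 4 := by
    intro h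
    obtain ⟨r, hr⟩ := exists_sqrt hm h
    have hx : cj g (F.ι r) * cj g (F.ι r) = F.ι l := by rw [← cj_mul, ← map_mul, hr]; exact em
    have hc : cj g (F.ι r) * (F.t * F.ι l) = F.t * F.ι l * cj g (F.ι r) := by
      rw [← hg, cj_comm_iff]; exact F.comm r
    have hc' : cj g (F.ι r) * F.ι l = F.ι l * cj g (F.ι r) := by rw [← hx, mul_assoc]
    have hct : cj g (F.ι r) * F.t = F.t * cj g (F.ι r) := by
      rw [← mul_assoc, mul_assoc F.t, ← hc', ← mul_assoc] at hc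
      exact mul_right_cancel hc
    obtain ⟨q, hq | hq⟩ := F.split _ hct
    · rw [hq, ← map_mul] at hx
      rw [← F.inj hx] at hl ⊢
      exact sq_inv2 hl
    · rw [hq, F.tmul_tmul] at hx
      rw [← F.inj hx] at hl ⊢
      exact sq_inv2 hl
  have hmv : mv m = mv l := by
    rcases mv_of_inv2 hl with h | h | h <;> rcases mv_of_inv2 hm with h' | h' | h' <;>
      rw [h, h'] at hcp sq1 sq2 ⊢ <;> simp at hcp sq1 sq2 ⊢
  obtain ⟨c, hc⟩ := exists_conj hl hm hmv.symm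
  exact ⟨g * F.ι c, by rw [← cj_cj, F.cj_ι_t, hg], by rw [← cj_cj, F.cj_ι, hc, em]⟩

/-- Adjusting an element fixing `ι pA` to be standard on `ι C(pA)`. -/
theorem adjA {g : G} (hA : cj g (F.ι pA) = F.ι pA)
    (hgen : ∀ x, Inv2 x → x * pA = pA * x → F.ι x * cj g F.t = cj g F.t * F.ι x) :
    ∃ g', cj g' F.t = cj g F.t ∧ cj g' (F.ι pA) = F.ι pA ∧
      ((∀ σ, σ * pA = pA * σ → cj g' (F.ι σ) = F.ι σ) ∨
        (cj g' (F.ι pB) = F.ι (pA * pB) ∧ cj g' (F.ι pC) = F.ι (pA * pC) ∧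
          cj g' (F.ι pE) = F.ι pE)) := by
  have hs : s1 * pA = pA * s1 ∧ s2 * pA = pA * s2 ∧ s3 * pA = pA * s3 ∧ s4 * pA = pA * s4 := by
    decide +kernel
  have pre : ∀ x, Inv2 x → x * pA = pA * x →
      ∃ m, (Inv2 m ∧ m * pA = pA * m) ∧ cj g (F.ι m) = F.ι x := by
    intro x hx hxa
    obtain ⟨m, hm, e⟩ := F.pull_ι hD hx (hgen x hx hxa)
    refine ⟨m, ⟨hm, F.commute_iff_ι.mp ?_⟩, e⟩
    rw [← cj_comm_iff (g := g), e, hA]
    exact F.commute_iff_ι.mpr hxa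
  obtain ⟨⟨i1, i2, i3, i4⟩, ⟨h1, h2, h3, h4⟩⟩ := inv2_s, hs
  obtain ⟨x1, p1, e1⟩ := pre s1 i1 h1
  obtain ⟨x2, p2, e2⟩ := pre s2 i2 h2
  obtain ⟨x3, p3, e3⟩ := pre s3 i3 h3
  obtain ⟨x4, p4, e4⟩ := pre s4 i4 h4
  have tr3 : ∀ {x y a b : S7}, cj g (F.ι x) = F.ι a → cj g (F.ι y) = F.ι b →
      a * (b * a) = b * (a * b) → x * (y * x) = y * (x * y) := by
    intro x y a b hx hy h
    apply F.inj; apply cj_inj (g := g)
    rw [map_mul, map_mul, map_mul, map_mul, cj_mul, cj_mul, cj_mul, cj_mul, hx, hy, ← map_mul,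
      ← map_mul, ← map_mul, ← map_mul, h]
  have trne : ∀ {x y a b : S7}, cj g (F.ι x) = F.ι a → cj g (F.ι y) = F.ι b → a ≠ b → x ≠ y := by
    intro x y a b hx hy h e
    rw [e, hy] at hx
    exact h (F.inj hx).symm
  have tr2 : ∀ {x y a b : S7}, cj g (F.ι x) = F.ι a → cj g (F.ι y) = F.ι b →
      a * b = b * a → x * y = y * x := by
    intro x y a b hx hy h
    rw [← F.commute_iff_ι, ← cj_comm_iff (g := g), hx, hy, F.commute_iff_ι]
    exact h
  obtain ⟨c, hc, hcase⟩ := classify_cA p1 p2 p3 p4 (tr3 e1 e2 (by decide +kernel))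
    (trne e1 e2 (by decide +kernel)) (tr3 e2 e3 (by decide +kernel))
    (trne e2 e3 (by decide +kernel)) (tr3 e3 e4 (by decide +kernel))
    (trne e3 e4 (by decide +kernel)) (tr2 e1 e3 (by decide +kernel))
    (tr2 e1 e4 (by decide +kernel)) (tr2 e2 e4 (by decide +kernel))
  have ga : cj (g * F.ι c) (F.ι pA) = F.ι pA := by
    rw [← cj_cj, F.cj_ι, hc, mul_assoc, mul_inv_cancel, mul_one, hA]
  refine ⟨g * F.ι c, by rw [← cj_cj, F.cj_ι_t], ga, ?_⟩
  rcases hcase with ⟨c1, c2, c3, c4⟩ | ⟨c1, c2, c3, -⟩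
  · left
    intro σ hσ
    have key : σ ∈ ((MulAut.conj (g * F.ι c)).toMonoidHom.comp F.ι).eqLocus F.ι := by
      refine closure_cA ?_ ?_ ?_ ?_ ?_ hσ
      · exact ga
      · show cj (g * F.ι c) (F.ι s1) = F.ι s1
        rw [← cj_cj, F.cj_ι, c1, e1]
      · show cj (g * F.ι c) (F.ι s2) = F.ι s2
        rw [← cj_cj, F.cj_ι, c2, e2]
      · show cj (g * F.ι c) (F.ι s3) = F.ι s3
        rw [← cj_cj, F.cj_ι, c3, e3]
      · show cj (g * F.ι c) (F.ι s4) = F.ι s4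
        rw [← cj_cj, F.cj_ι, c4, e4]
    exact key
  · right
    have e : ∀ {s x : S7}, c * (pA * s) * c⁻¹ = x → cj g (F.ι x) = F.ι s →
        cj (g * F.ι c) (F.ι s) = F.ι (pA * s) := by
      intro s x hx hs
      have h : cj (g * F.ι c) (F.ι (pA * s)) = F.ι s := by rw [← cj_cj, F.cj_ι, hx, hs]
      have h' : s = pA * (pA * s) := by rw [← mul_assoc, inv2_pA.1, one_mul]
      conv_lhs => rw [h']
      rw [map_mul, cj_mul, ga, h, ← map_mul]
    refine ⟨e c1 e1, e c3 e3, ?_⟩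
    rw [pE_word]
    simp only [map_mul, cj_mul, e c1 e1, e c2 e2, e c3 e3]
    simp only [← map_mul]
    exact congrArg F.ι (by decide +kernel)

/-- Adjusting an element fixing `ι pT` to be standard on `ι C(pT)`. -/
theorem adjT {g : G} (hT : cj g (F.ι pT) = F.ι pT)
    (hgen : ∀ x, Inv2 x → x * pT = pT * x → F.ι x * cj g F.t = cj g F.t * F.ι x) :
    ∃ g', cj g' F.t = cj g F.t ∧ cj g' (F.ι pA) = F.ι pA ∧ cj g' (F.ι pB) = F.ι pB ∧
      cj g' (F.ι pC) = F.ι pC ∧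
      ((∀ σ, σ * pT = pT * σ → cj g' (F.ι σ) = F.ι σ) ∨ cj g' (F.ι pE) = F.ι (pT * pE)) := by
  have pre : ∀ x, Inv2 x → x * pT = pT * x →
      ∃ m, (Inv2 m ∧ m * pT = pT * m) ∧ cj g (F.ι m) = F.ι x := by
    intro x hx hxa
    obtain ⟨m, hm, e⟩ := F.pull_ι hD hx (hgen x hx hxa)
    refine ⟨m, ⟨hm, F.commute_iff_ι.mp ?_⟩, e⟩
    rw [← cj_comm_iff (g := g), e, hT]
    exact F.commute_iff_ι.mpr hxa
  obtain ⟨xa, pa, ea⟩ := pre pA inv2_pA (by decide +kernel)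
  obtain ⟨xb, pb, eb⟩ := pre pB inv2_pB (by decide +kernel)
  obtain ⟨xc, pc, ec⟩ := pre pC inv2_pC (by decide +kernel)
  obtain ⟨x1, p1, e1⟩ := pre pE inv2_pE (by decide +kernel)
  obtain ⟨x2, p2, e2⟩ := pre pE2 inv2_pE2 (by decide +kernel)
  have tr : ∀ {x y z w a b c d : S7}, cj g (F.ι x) = F.ι a → cj g (F.ι y) = F.ι b →
      cj g (F.ι z) = F.ι c → cj g (F.ι w) = F.ι d → a * b = c * d → x * y = z * w := by
    intro x y z w a b c d hx hy hz hw h
    apply F.inj; apply cj_inj (g := g)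
    rw [map_mul, map_mul, cj_mul, cj_mul, hx, hy, hz, hw, ← map_mul, ← map_mul, h]
  have trne : ∀ {x y a b : S7}, cj g (F.ι x) = F.ι a → cj g (F.ι y) = F.ι b → a ≠ b → x ≠ y := by
    intro x y a b hx hy h e
    rw [e, hy] at hx
    exact h (F.inj hx).symm
  have habc : xa * xb * xc = pT := by
    apply F.inj; apply cj_inj (g := g)
    rw [map_mul, map_mul, cj_mul, cj_mul, ea, eb, ec, hT, ← map_mul, ← map_mul]
    congr 1
  have h3 : x1 * x2 * (x1 * x2 * (x1 * x2)) = 1 := by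
    apply F.inj; apply cj_inj (g := g)
    simp only [map_mul, cj_mul, e1, e2]
    simp only [← map_mul, map_one, cj_one]
    rw [show pE * pE2 * (pE * pE2 * (pE * pE2)) = 1 by decide +kernel, map_one]
  obtain ⟨c, hc, ca, cb, cc, hcase⟩ := classify_cT pa pb pc p1 p2
    (tr ea eb eb ea (by decide +kernel)) (trne eb ea (by decide +kernel)) habc
    (trne ec ea (by decide +kernel)) (trne ec eb (by decide +kernel))
    (tr e1 ea ea e1 (by decide +kernel)) (tr e1 eb ec e1 (by decide +kernel))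
    (tr e2 ea eb e2 (by decide +kernel)) (tr e2 ec ec e2 (by decide +kernel)) h3
  have gT : cj (g * F.ι c) (F.ι pT) = F.ι pT := by
    rw [← cj_cj, F.cj_ι, hc, mul_assoc, mul_inv_cancel, mul_one, hT]
  have ga : cj (g * F.ι c) (F.ι pA) = F.ι pA := by rw [← cj_cj, F.cj_ι, ca, ea]
  have gb : cj (g * F.ι c) (F.ι pB) = F.ι pB := by rw [← cj_cj, F.cj_ι, cb, eb]
  have gc : cj (g * F.ι c) (F.ι pC) = F.ι pC := by rw [← cj_cj, F.cj_ι, cc, ec]
  refine ⟨g * F.ι c, by rw [← cj_cj, F.cj_ι_t], ga, gb, gc, ?_⟩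
  rcases hcase with ⟨c1, c2⟩ | ⟨c1, -⟩
  · left
    intro σ hσ
    have key : σ ∈ ((MulAut.conj (g * F.ι c)).toMonoidHom.comp F.ι).eqLocus F.ι := by
      refine closure_cT ga gb gc ?_ ?_ hσ
      · show cj (g * F.ι c) (F.ι pE) = F.ι pE
        rw [← cj_cj, F.cj_ι, c1, e1]
      · show cj (g * F.ι c) (F.ι pE2) = F.ι pE2
        rw [← cj_cj, F.cj_ι, c2, e2]
    exact key
  · right
    have h : cj (g * F.ι c) (F.ι (pT * pE)) = F.ι pE := by rw [← cj_cj, F.cj_ι, c1, e1]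
    have h' : pE = pT * (pT * pE) := by rw [← mul_assoc, inv2_pT.1, one_mul]
    conv_lhs => rw [h']
    rw [map_mul, cj_mul, gT, h, ← map_mul]

omit hD in
theorem gen_swap {κ : S7} (x : S7) (hx : x * κ = κ * x) :
    F.ι x * (F.t * F.ι κ) = F.t * F.ι κ * F.ι x :=
  (F.tmul_commute_iff.mpr hx.symm).symm

/-- The twists do not occur. -/
theorem exists_h : (∃ g, cj g F.t = F.t * F.ι pA ∧ ∀ σ, σ * pA = pA * σ → cj g (F.ι σ) = F.ι σ) ∧
    (∃ g, cj g F.t = F.t * F.ι pT ∧ ∀ σ, σ * pT = pT * σ → cj g (F.ι σ) = F.ι σ) := by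
  obtain ⟨g0, hg0, hg0'⟩ := F.exists_swap hD inv2_pA
  obtain ⟨ga, hgat, hgaa, hgacase⟩ := F.adjA hD hg0' (fun x _ hx => by
    rw [hg0]; exact F.gen_swap x hx)
  rw [hg0] at hgat
  obtain ⟨g1, hg1, hg1'⟩ := F.exists_swap hD inv2_pT
  obtain ⟨gT, hgTt, hgTa, hgTb, hgTc, hgTcase⟩ := F.adjT hD hg1' (fun x _ hx => by
    rw [hg1]; exact F.gen_swap x hx)
  rw [hg1] at hgTt
  obtain ⟨gz, hgz, hgz'⟩ := F.exists_swap hD inv2_pZ
  have hTsplit : ∀ {u}, cj gT (F.ι pE) = F.ι pE ∨ cj gT (F.ι pE) = F.ι (pT * pE) → u = F.ι pE →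
      cj gT⁻¹ u = F.ι pE ∨ cj gT⁻¹ u = F.ι (pT * pE) := by
    rintro u (h | h) rfl
    · exact Or.inl (cj_symm h)
    · right
      apply cj_symm
      rw [map_mul, cj_mul, h, show cj gT (F.ι pT) = F.ι pT by
        rw [pT, pZ, map_mul, map_mul, cj_mul, cj_mul, hgTa, hgTb, hgTc], ← map_mul]
      congr 1
      decide +kernel
  -- facts on an element commuting with `t ι pZ`, `z` and `y`
  have frameZ : ∀ {x : S7}, Inv2 x → x * pZ = pZ * x → x * pY = pY * x →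
      ∃ m, Inv2 m ∧ m * pZ = pZ * m ∧ m * pY = pY * m ∧ cj gz (F.ι m) = F.ι x ∧
        F.ty (mv m) (F.t * F.ι pZ) (F.ι x) := by
    intro x hx hxz hxy
    obtain ⟨m, hm, em⟩ := F.pull_ι hD hx (g := gz) (by rw [hgz]; exact F.gen_swap x hxz)
    have hmz : m * pZ = pZ * m := by
      rw [← F.commute_iff_ι, ← cj_comm_iff (g := gz), em, hgz', F.commute_iff_ι]; exact hxz
    refine ⟨m, hm, hmz, ?_, em, gz, m, hm, rfl, hgz, em⟩
    obtain ⟨q, hq⟩ := F.split (cj gz⁻¹ (F.ι pY)) (by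
      rw [← cj_comm_iff (g := gz), cj_cj_inv, hgz]; exact F.gen_swap pY (by decide +kernel))
    have h3 : cj gz⁻¹ (F.ι pY) * (cj gz⁻¹ (F.ι pY) * cj gz⁻¹ (F.ι pY)) = 1 := by
      rw [← cj_mul, ← cj_mul, ← map_mul, ← map_mul, pY_cube, map_one, cj_one]
    rcases hq with hq | hq
    · have hqz : q * pZ = pZ * q := by
        rw [← F.commute_iff_ι, ← hq, ← cj_comm_iff (g := gz), cj_cj_inv, hgz', F.commute_iff_ι]
        decide +kernel
      have hqm : m * q = q * m := by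
        rw [← F.commute_iff_ι, ← hq, ← cj_comm_iff (g := gz), cj_cj_inv, em, F.commute_iff_ι]
        exact hxy
      have hq1 : q ≠ 1 := by
        intro e
        rw [e, map_one] at hq
        have := (cj_symm hq).symm
        rw [inv_inv, cj_one, ← map_one F.ι] at this
        exact absurd (F.inj this) (by decide +kernel)
      rw [hq, ← map_mul, ← map_mul, ← map_one F.ι] at h3
      rcases order_three_comm_pZ (F.inj h3) hq1 hqz with rfl | rfl
      · exact hqm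
      · have e : pY = pY * pY * (pY * pY) := by rw [mul_assoc pY pY, pY_cube, mul_one]
        rw [e]
        exact ((show Commute m _ from hqm).mul_right hqm).eq
    · rw [hq, F.tmul_tmul, mul_assoc, ← map_mul, ← map_one F.ι] at h3
      exact absurd h3 (F.tmul_ne _ _)
  have hgaz : cj ga (F.ι pZ) = F.ι pZ := by
    rcases hgacase with h | ⟨hb, hc, -⟩
    · exact h pZ (by decide +kernel)
    · rw [pZ, map_mul, cj_mul, hb, hc, ← map_mul, ← map_mul]
      exact congrArg F.ι (by decide +kernel)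
  have htz : cj ga (F.t * F.ι pZ) = F.t * F.ι pT := by
    rw [cj_mul, hgat, hgaz, mul_assoc, ← map_mul]
    rfl
  have hgae : cj ga (F.ι pE) = F.ι pE := by
    rcases hgacase with h | ⟨-, -, he⟩
    · exact h pE (by decide +kernel)
    · exact he
  have hgTe : cj gT (F.ι pE) = F.ι pE ∨ cj gT (F.ι pE) = F.ι (pT * pE) :=
    hgTcase.imp_left (fun h => h pE (by decide +kernel))
  have e_type : ∀ n, F.ty n (F.t * F.ι pZ) (F.ι pE) →
      ∃ m, (m = pE ∨ m = pT * pE) ∧ mv m = n ∧ cj gT⁻¹ (F.ι pE) = F.ι m := by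
    intro n hn
    have h := F.ty_cj gT⁻¹ (F.ty_cj ga hn)
    rw [htz, hgae, cj_symm hgTt] at h
    rcases hTsplit hgTe rfl with e | e <;> rw [e] at h
    · exact ⟨pE, Or.inl rfl, (F.ty_t_iff inv2_pE).mp h, e⟩
    · exact ⟨pT * pE, Or.inr rfl,
        (F.ty_t_iff (by rw [inv2_iff]; decide +kernel)).mp h, e⟩
  have hgaid : ∀ σ, σ * pA = pA * σ → cj ga (F.ι σ) = F.ι σ := by
    rcases hgacase with h | ⟨hb, -, -⟩
    · exact h
    exfalso
    obtain ⟨β, hβ, hβz, hβy, eβ, tβ⟩ :=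
      frameZ inv2_pB (by decide +kernel) (by decide +kernel)
    obtain ⟨η, hη, hηz, hηy, eη, tη⟩ :=
      frameZ inv2_pE (by decide +kernel) (by decide +kernel)
    have hne : β * η ≠ η * β := by
      intro e
      rw [← F.commute_iff_ι, ← cj_comm_iff (g := gz), eβ, eη, F.commute_iff_ι] at e
      exact absurd e (by decide +kernel)
    have h := F.ty_cj gT⁻¹ (F.ty_cj ga tβ)
    have hab : cj gT⁻¹ (F.ι (pA * pB)) = F.ι (pA * pB) :=
      cj_symm (by rw [map_mul, cj_mul, hgTa, hgTb])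
    rw [htz, hb, cj_symm hgTt, hab, F.ty_t_iff (by rw [inv2_iff]; decide +kernel)] at h
    obtain ⟨m, hm, hmn, -⟩ := e_type _ tη
    rcases zy_pair hβ hβz hβy hη hηz hηy hne with e | e
    · rw [e] at h; exact absurd h (by decide +kernel)
    · rw [e] at hmn
      rcases hm with rfl | rfl <;> exact absurd hmn (by decide +kernel)
  refine ⟨⟨ga, hgat, hgaid⟩, ⟨gT, hgTt, ?_⟩⟩
  rcases hgTcase with h | h
  · exact h
  exfalso
  obtain ⟨η, hη, hηz, hηy, eη, tη⟩ := frameZ inv2_pE (by decide +kernel) (by decide +kernel)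
  obtain ⟨m, hm, hmn, em⟩ := e_type _ tη
  rcases hm with rfl | rfl
  · have := cj_symm em
    rw [inv_inv, h] at this
    exact absurd (F.inj this) (by decide +kernel)
  · exact zy_no_six hη hηz hηy (hmn.symm.trans (by decide +kernel))

/-- For odd `l`, `t` and `t ι l` are conjugate by an element centralising `ι C(l)`. -/
theorem exists_hc {l : S7} (hl : Inv2 l) (h4 : mv l ≠ 4) :
    ∃ g, cj g F.t = F.t * F.ι l ∧ ∀ σ, σ * l = l * σ → cj g (F.ι σ) = F.ι σ := by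
  obtain ⟨⟨ga, hga, hga'⟩, ⟨gT, hgT, hgT'⟩⟩ := F.exists_h hD
  obtain ⟨r, g, hrl, hgt, hgσ⟩ : ∃ r g, (Inv2 r ∧ mv r = mv l) ∧ cj g F.t = F.t * F.ι r ∧
      ∀ σ, σ * r = r * σ → cj g (F.ι σ) = F.ι σ := by
    rcases mv_of_inv2 hl with e | e | e
    · exact ⟨pA, ga, ⟨inv2_pA, by rw [mv_pA, e]⟩, hga, hga'⟩
    · exact absurd e h4
    · exact ⟨pT, gT, ⟨inv2_pT, by rw [mv_pT, e]⟩, hgT, hgT'⟩
  obtain ⟨c, hc⟩ := exists_conj hrl.1 hl hrl.2
  refine ⟨F.ι c * g * (F.ι c)⁻¹, ?_, fun σ hσ => ?_⟩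
  · rw [← cj_cj, ← cj_cj, ← map_inv, F.cj_ι_t, hgt, cj_mul, F.cj_ι_t, F.cj_ι, hc]
  · rw [← cj_cj, ← cj_cj, ← map_inv, F.cj_ι, hgσ, F.cj_ι]
    · congr 1; group
    · rw [inv_inv, ← conj_comm_iff c]
      simp only [mul_assoc, mul_inv_cancel_left, mul_inv_cancel, mul_one]
      simp only [← mul_assoc, hc]
      exact hσ

/-- For commuting `k, l` some element takes `(t, ι l)` to `(t ι k, ι l)`. -/
theorem exists_TP {k l : S7} (hk : Inv2 k) (hl : Inv2 l) (hkl : k * l = l * k) :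
    ∃ g, cj g F.t = F.t * F.ι k ∧ cj g (F.ι l) = F.ι l := by
  by_cases h4 : mv k = 4
  · obtain ⟨c, hc⟩ := exists_conj inv2_pZ hk (by rw [mv_pZ, h4])
    obtain ⟨k0, hk0, hk2, hk0z, hk0l, hk6⟩ := companion (l := c⁻¹ * l * c⁻¹⁻¹) (inv2_conj hl c⁻¹) (by
      rw [← conj_comm_iff c, hc]
      simpa [mul_assoc] using hkl.symm)
    set k' := c * k0 * c⁻¹ with hk'
    have h2 : mv k' = 2 := by rw [hk', mv_conj, hk2]
    have hk'k : k' * k = k * k' := by rw [hk', ← hc, conj_comm_iff]; exact hk0z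
    have hk'l : k' * l = l * k' := by
      have := (conj_comm_iff c k0 (c⁻¹ * l * c⁻¹⁻¹)).mpr hk0l
      rwa [show c * (c⁻¹ * l * c⁻¹⁻¹) * c⁻¹ = l by group] at this
    have h6 : mv (k * k') = 6 := by
      rw [← hc, hk', show c * pZ * c⁻¹ * (c * k0 * c⁻¹) = c * (pZ * k0) * c⁻¹ by group, mv_conj,
        hk6]
    have hkk' : Inv2 (k * k') := by
      refine ⟨?_, fun e => by rw [e, mv_one] at h6; omega⟩
      rw [mul_assoc, ← mul_assoc k', hk'k, mul_assoc, (inv2_conj hk0 c).1, mul_one, hk.1]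
    obtain ⟨g1, hg1, hg1'⟩ := F.exists_hc hD (inv2_conj hk0 c) (by rw [h2]; decide)
    obtain ⟨g2, hg2, hg2'⟩ := F.exists_hc hD hkk' (by rw [h6]; decide)
    refine ⟨g1⁻¹ * g2, ?_, ?_⟩
    · rw [← cj_cj, hg2]
      apply cj_symm
      rw [cj_mul, hg1, hg1' k hk'k.symm, mul_assoc, ← map_mul, hk'k]
    · rw [← cj_cj, hg2' l (by
        rw [← mul_assoc, ← hkl, mul_assoc, ← hk'l, ← mul_assoc]), cj_symm (hg1' l hk'l.symm)]
  · obtain ⟨g, hg, hg'⟩ := F.exists_hc hD hk h4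
    exact ⟨g, hg, hg' l hkl.symm⟩

/-- Types are unchanged from `u` to `u * m` for commuting `m`, `k`. -/
theorem ty_mul {n j : ℕ} {u m k : G} (hm : F.ty j u m) (hk : F.ty n u k) (hc : m * k = k * m) :
    F.ty n (u * m) k := by
  obtain ⟨g, l, hl, -, h1, h2⟩ := hm
  subst h1 h2
  obtain ⟨q, hq, hqn, e⟩ : ∃ q, Inv2 q ∧ mv q = n ∧ cj g (F.ι q) = k := by
    rw [← cj_cj_inv g k, F.ty_cj_iff] at hk
    obtain ⟨q, hq, hqn, e⟩ := F.ty_t_elim hk
    exact ⟨q, hq, hqn, by rw [← e, cj_cj_inv]⟩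
  subst e
  rw [cj_comm_iff, F.commute_iff_ι] at hc
  obtain ⟨h, h1, h2⟩ := F.exists_TP hD hl hq hc
  rw [← cj_mul, ← h1]
  conv => arg 4; rw [← h2]
  exact F.ty_cj g (F.ty_cj h (hqn ▸ F.ty_t hq))

end Cent

end Cfsg.Agent.Lib.InvCentS7
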