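/-
An involution with centraliser `Z₂ × S₇`: all `t ι l` are conjugate to `t`, no `ι l` is
(helper74, for S3147).  Second part: `8` divides the class size; pairs; the elements `w`.
-/
import Cfsg.Agent.Lib.InvCentS7.DOne

set_option autoImplicit false

namespace Cfsg.Agent.Lib.InvCentS7

open Equiv Enc

universe u

/-- `C(pA, pB, pC)`, elementary abelian of order 8. -/
def E8 : Subgroup S7 := Subgroup.centralizer {pA, pB, pC}

theorem mem_E8 {σ : S7} :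
    σ ∈ E8 ↔ σ * pA = pA * σ ∧ σ * pB = pB * σ ∧ σ * pC = pC * σ := by
  rw [E8, Subgroup.mem_centralizer_iff]
  simp only [Set.mem_insert_iff, Set.mem_singleton_iff, forall_eq_or_imp, forall_eq]
  exact ⟨fun h => ⟨h.1.symm, h.2.1.symm, h.2.2.symm⟩, fun h => ⟨h.1.symm, h.2.1.symm, h.2.2.symm⟩⟩

def E8List : List S7 := prodsL [1, pA] <| prodsL [1, pB] [1, pC]

theorem mem_E8List {σ : S7} (h : σ ∈ E8) : σ ∈ E8List := by
  obtain ⟨ha, hb, hc⟩ := mem_E8.mp h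
  have key : (all7.filter fun f => comB f eA && (comB f eB && comB f eC)).all
      (fun f => (E8List.map enc).contains f) = true := by decide +kernel
  rw [List.all_eq_true] at key
  rw [comB_iff, enc_pA] at ha
  rw [comB_iff, enc_pB] at hb
  rw [comB_iff, enc_pC] at hc
  have := key (enc σ) (List.mem_filter.mpr ⟨enc_mem σ, by simp [ha, hb, hc]⟩)
  rw [List.contains_iff_mem] at this
  obtain ⟨τ, hτ, e⟩ := List.mem_map.mp this
  rwa [enc_injective e] at hτ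

theorem card_E8 : Nat.card E8 = 8 := by
  rw [Nat.card_congr (Equiv.subtypeEquivRight (fun σ => mem_E8 (σ := σ))),
    card_sub _ all7 (fun f => comB f eA && (comB f eB && comB f eC)) all7_nodup (fun _ h => h)
      (fun σ => by rw [comB_iff, comB_iff, comB_iff, enc_pA, enc_pB, enc_pC]; simp [enc_mem])]
  decide +kernel

theorem abc_mem_E8 : pA ∈ E8 ∧ pB ∈ E8 ∧ pC ∈ E8 := by
  simp only [mem_E8]; decide +kernel

theorem E8_sq {σ : S7} (h : σ ∈ E8) : σ * σ = 1 := by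
  obtain ⟨ha, hb, hc⟩ := mem_E8.mp h
  have key : (all7.filter fun f => comB f eA && (comB f eB && comB f eC)).all
      (fun f => cm f f == idL) = true := by decide +kernel
  rw [List.all_eq_true] at key
  rw [comB_iff, enc_pA] at ha
  rw [comB_iff, enc_pB] at hb
  rw [comB_iff, enc_pC] at hc
  exact sq_iff.mpr (beq_iff_eq.mp
    (key (enc σ) (List.mem_filter.mpr ⟨enc_mem σ, by simp [ha, hb, hc]⟩)))

theorem E8_comm {σ τ : S7} (h : σ ∈ E8) (h' : τ ∈ E8) : σ * τ = τ * σ := by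
  have h1 := E8_sq (E8.mul_mem h h')
  calc σ * τ = (σ * σ) * (σ * τ) * (τ * τ) := by rw [E8_sq h, E8_sq h', one_mul, mul_one]
    _ = σ * (σ * (σ * τ) * τ) * τ := by group
    _ = (σ * τ * (σ * τ)) * (τ * σ) := by
      rw [h1, one_mul, ← mul_assoc σ σ, E8_sq h, one_mul, E8_sq h', mul_one]
      exact (inv_eq_of_mul_eq_one_right h1).symm.trans
        (by rw [mul_inv_rev, inv_eq_of_mul_eq_one_right (E8_sq h),
          inv_eq_of_mul_eq_one_right (E8_sq h')])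
    _ = τ * σ := by rw [h1, one_mul]

theorem tK_normalizes_E8 {m : S7} (ha : m * pA = pA * m) (hz : m * pZ = pZ * m) {σ : S7}
    (hσ : σ ∈ E8) : m * σ * m⁻¹ ∈ E8 := by
  have hN : m ∈ Subgroup.normalizer (E8 : Set S7) := by
    obtain ⟨h1, h2, h3⟩ := abc_mem_E8
    refine closure_tK (Subgroup.le_normalizer h1) (Subgroup.le_normalizer h2)
      (Subgroup.le_normalizer h3) ?_ ha hz
    have ea : pE * pA * pE⁻¹ = pA := by decide +kernel
    have eb : pE * pB * pE⁻¹ = pC := by decide +kernel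
    have ec : pE * pC * pE⁻¹ = pB := by decide +kernel
    have conj_iff : ∀ x y : S7, pE * x * pE⁻¹ * (pE * y * pE⁻¹) =
        pE * y * pE⁻¹ * (pE * x * pE⁻¹) ↔ x * y = y * x := fun x y =>
      ⟨fun h => by
        calc x * y = pE⁻¹ * (pE * x * pE⁻¹ * (pE * y * pE⁻¹)) * pE := by group
          _ = pE⁻¹ * (pE * y * pE⁻¹ * (pE * x * pE⁻¹)) * pE := by rw [h]
          _ = y * x := by group,
       fun h => by
        calc pE * x * pE⁻¹ * (pE * y * pE⁻¹) = pE * (x * y) * pE⁻¹ := by group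
          _ = pE * (y * x) * pE⁻¹ := by rw [h]
          _ = pE * y * pE⁻¹ * (pE * x * pE⁻¹) := by group⟩
    rw [Subgroup.mem_normalizer_iff]
    intro x
    show x ∈ E8 ↔ pE * x * pE⁻¹ ∈ E8
    rw [mem_E8, mem_E8, ← conj_iff x pA, ← conj_iff x pB, ← conj_iff x pC, ea, eb, ec]
    exact ⟨fun ⟨a, b, c⟩ => ⟨a, c, b⟩, fun ⟨a, c, b⟩ => ⟨a, b, c⟩⟩
  exact ((Subgroup.mem_normalizer_iff.mp hN) σ).mp hσ

namespace Cent

variable {G : Type u} [Group G] (F : Cent G)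

/-- The elements normalising `ι E8` and moving `t` within `t · ι E8`. -/
def W8 : Subgroup G where
  carrier := {g | g ∈ Subgroup.normalizer ((E8.map F.ι : Subgroup G) : Set G) ∧
    g * F.t * g⁻¹ * F.t ∈ E8.map F.ι}
  one_mem' := ⟨Subgroup.one_mem _, by
    rw [inv_one, one_mul, mul_one, F.t_sq]; exact Subgroup.one_mem _⟩
  mul_mem' := by
    rintro g h ⟨hg, gt⟩ ⟨hh, ht⟩
    refine ⟨Subgroup.mul_mem _ hg hh, ?_⟩
    have := Subgroup.mul_mem _ ((Subgroup.mem_normalizer_iff.mp hg _).mp ht) gt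
    rwa [show g * (h * F.t * h⁻¹ * F.t) * g⁻¹ * (g * F.t * g⁻¹ * F.t) =
      g * (h * F.t * h⁻¹) * (F.t * F.t) * g⁻¹ * F.t by group, F.t_sq, mul_one,
      show g * (h * F.t * h⁻¹) * g⁻¹ * F.t = g * h * F.t * (g * h)⁻¹ * F.t by group] at this
  inv_mem' := by
    rintro g ⟨hg, gt⟩
    refine ⟨Subgroup.inv_mem _ hg, ?_⟩
    apply (Subgroup.mem_normalizer_iff.mp hg _).mpr
    have h2 := Subgroup.inv_mem _ gt
    rw [show (g * F.t * g⁻¹ * F.t)⁻¹ = F.t⁻¹ * g * F.t⁻¹ * g⁻¹ by group, F.t_inv] at h2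
    rwa [show g * (g⁻¹ * F.t * g⁻¹⁻¹ * F.t) * g⁻¹ = F.t * g * F.t * g⁻¹ by group]

theorem ι_E8_mem {σ : S7} : F.ι σ ∈ E8.map F.ι ↔ σ ∈ E8 := Subgroup.mem_map_iff_mem F.inj

theorem mem_W8_of_fix {g : G} (hg : ∀ σ ∈ E8, cj g (F.ι σ) = F.ι σ) {l : S7} (hl : l ∈ E8)
    (ht : cj g F.t = F.t * F.ι l) : g ∈ F.W8 := by
  refine ⟨Subgroup.mem_normalizer_iff.mpr fun x => ⟨?_, ?_⟩, ?_⟩
  · rintro ⟨σ, hσ, rfl⟩
    rw [show g * F.ι σ * g⁻¹ = F.ι σ from hg σ hσ]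
    exact F.ι_E8_mem.mpr hσ
  · rintro ⟨σ, hσ, e⟩
    have : x = F.ι σ := cj_inj (g := g) ((show cj g x = F.ι σ from e.symm).trans (hg σ hσ).symm)
    rw [this]
    exact F.ι_E8_mem.mpr hσ
  · rw [show g * F.t * g⁻¹ = F.t * F.ι l from ht, mul_assoc, F.comm, ← mul_assoc, F.t_sq, one_mul]
    exact F.ι_E8_mem.mpr hl

theorem T_le_W8 : F.T ≤ F.W8 := by
  intro x hx
  have conj_mem : ∀ y ∈ F.T, ∀ s ∈ E8.map F.ι, y * s * y⁻¹ ∈ E8.map F.ι := by
    intro y hy s hs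
    obtain ⟨σ, hσ, rfl⟩ := hs
    obtain ⟨m, ⟨ha, hz⟩, rfl | rfl⟩ := F.mem_T.mp hy
    · rw [← map_inv, ← map_mul, ← map_mul]
      exact F.ι_E8_mem.mpr (tK_normalizes_E8 ha hz hσ)
    · rw [show F.t * F.ι m * F.ι σ * (F.t * F.ι m)⁻¹ = cj (F.t * F.ι m) (F.ι σ) from rfl,
        F.cj_tι_ι]
      exact F.ι_E8_mem.mpr (tK_normalizes_E8 ha hz hσ)
  refine ⟨Subgroup.mem_normalizer_iff.mpr fun s => ⟨conj_mem x hx s, fun h => ?_⟩, ?_⟩
  · have := conj_mem x⁻¹ (F.T.inv_mem hx) _ h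
    rwa [show x⁻¹ * (x * s * x⁻¹) * x⁻¹⁻¹ = s by group] at this
  · rw [mul_mul_inv_comm (Subgroup.mem_centralizer_singleton_iff.mp (F.T_le hx)), F.t_sq]
    exact Subgroup.one_mem _

variable (hD : F.IsD)
include hD

theorem exists_move8 {l : S7} (hl : l ∈ E8) :
    ∃ g, (∀ σ ∈ E8, cj g (F.ι σ) = F.ι σ) ∧ cj g F.t = F.t * F.ι l := by
  let R : Subgroup S7 :=
    { carrier := {m | m ∈ E8 ∧ ∃ g, (∀ σ ∈ E8, cj g (F.ι σ) = F.ι σ) ∧ cj g F.t = F.t * F.ι m}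
      one_mem' := ⟨E8.one_mem, 1, fun σ _ => one_cj _, by rw [one_cj, map_one, mul_one]⟩
      mul_mem' := by
        rintro m n ⟨hm, g, hg, gt⟩ ⟨hn, h, hh, ht⟩
        refine ⟨E8.mul_mem hm hn, g * h, fun σ hσ => by rw [← cj_cj, hh σ hσ, hg σ hσ], ?_⟩
        rw [← cj_cj, ht, cj_mul, gt, hg n hn, mul_assoc, ← map_mul]
      inv_mem' := by
        rintro m ⟨hm, h⟩
        rw [inv_eq_of_mul_eq_one_right (E8_sq hm)]
        exact ⟨hm, h⟩ }
  have gen : ∀ r ∈ E8, Inv2 r → mv r ≠ 4 → r ∈ R := by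
    intro r hr hi h4
    obtain ⟨g, gt, hg⟩ := F.exists_hc hD hi h4
    exact ⟨hr, g, fun σ hσ => hg σ (E8_comm hσ hr), gt⟩
  obtain ⟨ha, hb, hc⟩ := abc_mem_E8
  have h2 : l ∈ R := by
    refine mem_prodsL ?_ (mem_prodsL ?_ ?_) l (mem_E8List hl)
    all_goals
      intro x hx
      fin_cases hx
    · exact R.one_mem
    · exact gen _ ha inv2_pA (by rw [mv_pA]; decide)
    · exact R.one_mem
    · exact gen _ hb inv2_pB (by rw [mv_pB]; decide)
    · exact R.one_mem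
    · exact gen _ hc inv2_pC (by rw [mv_pC]; decide)
  exact h2.2

theorem eight_dvd [Finite G] : 8 ∣ Nat.card {u : G // F.IsX u} := by
  classical
  let t' : F.W8 := ⟨F.t, F.T_le_W8 F.t_mem_T⟩
  have hcard := Tools.card_conj_into t' (fun _ => True)
  rw [Nat.card_congr (Equiv.subtypeUnivEquiv (α := F.W8) fun _ => trivial),
    Nat.card_congr (Equiv.subtypeEquivRight (p := fun u : F.W8 => IsConj t' u ∧ True)
      (q := fun u => IsConj t' u) fun _ => and_iff_left trivial)] at hcard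
  have hcls : Nat.card {u : F.W8 // IsConj t' u} = 8 := by
    rw [← card_E8]
    have mem : ∀ l : E8, ∃ u : {u : F.W8 // IsConj t' u}, (u.1 : G) = F.t * F.ι l.1 := by
      intro l
      obtain ⟨g, hg, ht⟩ := F.exists_move8 hD l.2
      let gW : F.W8 := ⟨g, F.mem_W8_of_fix hg l.2 ht⟩
      refine ⟨⟨gW * t' * gW⁻¹, isConj_iff.mpr ⟨gW, rfl⟩⟩, ?_⟩
      exact ht
    choose f hf using mem
    refine (Nat.card_congr (Equiv.ofBijective f ⟨fun l m e => ?_, fun u => ?_⟩)).symm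
    · exact Subtype.ext (F.tmul_inj ((hf l).symm.trans (by rw [e, hf m])))
    · obtain ⟨c, hc⟩ := isConj_iff.mp u.2
      obtain ⟨σ, hσ, e⟩ := c.2.2
      refine ⟨⟨σ, hσ⟩, Subtype.ext (Subtype.ext ?_)⟩
      rw [hf, ← hc]
      show F.t * F.ι σ = (c : G) * F.t * (c : G)⁻¹
      rw [← F.comm, e, mul_assoc, F.t_sq, mul_one]
  have hcen : 32 ∣ Nat.card (Subgroup.centralizer ({t'} : Set F.W8)) := by
    have hle : F.T.subgroupOf F.W8 ≤ Subgroup.centralizer ({t'} : Set F.W8) := fun x hx =>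
      Subgroup.mem_centralizer_singleton_iff.mpr
        (Subtype.ext (Subgroup.mem_centralizer_singleton_iff.mp (F.T_le hx)))
    have := Subgroup.card_dvd_of_le hle
    rwa [Nat.card_congr (Subgroup.subgroupOfEquivOfLe F.T_le_W8).toEquiv, F.card_T] at this
  have h256 : 256 ∣ Nat.card G := by
    refine Dvd.dvd.trans ?_ (Subgroup.card_subgroup_dvd_card F.W8)
    rw [hcard, hcls]
    obtain ⟨k, hk⟩ := hcen
    rw [hk]
    exact ⟨k, by ring⟩
  rw [← F.card_G] at h256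
  omega

omit hD in
theorem ty_card {n : ℕ} {u : G} (hu : F.IsX u) :
    Nat.card {k : G // F.ty n u k} = Nat.card {l : S7 // Inv2 l ∧ mv l = n} := by
  obtain ⟨g, rfl⟩ := F.exists_cj hu
  let f : {l : S7 // Inv2 l ∧ mv l = n} → {k : G // F.ty n (cj g F.t) k} :=
    fun l => ⟨cj g (F.ι l.1), g, l.1, l.2.1, l.2.2, rfl, rfl⟩
  refine (Nat.card_congr (Equiv.ofBijective f ⟨fun l m e => ?_, fun k => ?_⟩)).symm
  · exact Subtype.ext (F.inj (cj_inj (congrArg Subtype.val e)))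
  · obtain ⟨l, hl, hn, e⟩ := F.ty_t_elim (n := n) (k := cj g⁻¹ k.1)
      (by rw [← F.ty_cj_iff g, cj_cj_inv]; exact k.2)
    exact ⟨⟨l, hl, hn⟩, Subtype.ext (by show cj g (F.ι l) = k.1; rw [← e, cj_cj_inv])⟩

theorem ty_mul_self {n : ℕ} {u k : G} (h : F.ty n u k) : F.ty n (u * k) k :=
  F.ty_mul hD h h rfl

theorem mem_pairC {n : ℕ} {l m : S7} (hl : Inv2 l) (hn : mv l = n) (hm : m * m = 1)
    (hc : m * l = l * m) : F.ty n (F.t * F.ι m) (F.ι l) := by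
  subst hn
  by_cases e : m = 1
  · rw [e, map_one, mul_one]; exact F.ty_t hl
  · exact F.ty_mul hD (F.ty_t ⟨hm, e⟩) (F.ty_t hl) (F.commute_iff_ι.mpr hc)

/-- The pairs centralised by `t`. -/
theorem card_pairC [Finite G] {κ : S7} (hκ : Inv2 κ) :
    Nat.card {p : G × G // F.ty (mv κ) p.1 p.2 ∧ cj F.t p.1 = p.1 ∧ cj F.t p.2 = p.2} =
      Nat.card {l : S7 // Inv2 l ∧ mv l = mv κ} *
        Nat.card {σ : S7 // σ * σ = 1 ∧ σ * κ = κ * σ} := by
  classical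
  let A := {l : S7 // Inv2 l ∧ mv l = mv κ}
  let B : A → Type := fun l => {m : S7 // m * m = 1 ∧ m * l.1 = l.1 * m}
  have hB : ∀ l : A, Nat.card (B l) = Nat.card {σ : S7 // σ * σ = 1 ∧ σ * κ = κ * σ} := by
    intro l
    obtain ⟨c, hc⟩ := exists_conj hκ l.2.1 l.2.2.symm
    refine (Nat.card_congr ((MulAut.conj c).toEquiv.subtypeEquiv fun σ => ?_)).symm
    simp only [MulEquiv.toEquiv_eq_coe, MulEquiv.coe_toEquiv, MulAut.conj_apply, ← hc,
      conj_comm_iff]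
    rw [show c * σ * c⁻¹ * (c * σ * c⁻¹) = c * (σ * σ) * c⁻¹ by group, conj_eq_one_iff]
  have e1 : Nat.card (Σ l : A, B l) =
      Nat.card A * Nat.card {σ : S7 // σ * σ = 1 ∧ σ * κ = κ * σ} := by
    rw [Nat.card_sigma, Finset.sum_congr rfl (fun l _ => hB l), Finset.sum_const, smul_eq_mul,
      Finset.card_univ, Nat.card_eq_fintype_card (α := A)]
  rw [← e1]
  let f : (Σ l : A, B l) →
      {p : G × G // F.ty (mv κ) p.1 p.2 ∧ cj F.t p.1 = p.1 ∧ cj F.t p.2 = p.2} := fun p =>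
    ⟨(F.t * F.ι p.2.1, F.ι p.1.1), F.mem_pairC hD p.1.2.1 p.1.2.2 p.2.2.1 p.2.2.2,
      by show cj F.t (F.t * F.ι p.2.1) = _; rw [cj_mul, F.cj_t_ι, cj_of_comm rfl], F.cj_t_ι _⟩
  refine (Nat.card_congr (Equiv.ofBijective f ⟨?_, ?_⟩)).symm
  · rintro ⟨⟨l, hl⟩, ⟨m, hm⟩⟩ ⟨⟨l', hl'⟩, ⟨m', hm'⟩⟩ h
    have h' := congrArg Subtype.val h
    simp only [f, Prod.mk.injEq] at h'
    obtain rfl := F.inj h'.2
    obtain rfl := F.tmul_inj h'.1
    rfl
  · rintro ⟨⟨u, k⟩, hty, hu, hk⟩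
    have hk' : k * F.t = F.t * k := (cj_eq_iff.mp hk).symm
    obtain ⟨l, hl, rfl⟩ := F.exists_ι hD hk' (F.ty_sq hty).1 (F.ty_sq hty).2 (by
      obtain ⟨g, q, -, -, -, e⟩ := hty
      rw [show k = cj g (F.ι q) from e.symm, isX_cj]; exact hD.hA q)
    obtain ⟨m, hm | hm⟩ := F.split u (cj_eq_iff.mp hu).symm
    · exact absurd (hm ▸ F.ty_isX hty : F.IsX (F.ι m)) (hD.hA m)
    subst hm
    have hm2 : m * m = 1 := F.B_sq (F.ty_isX hty)
    have hml : m * l = l * m := F.tmul_commute_iff.mp (F.ty_comm hty).symm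
    have hn : mv l = mv κ := F.ty_unique (F.mem_pairC hD hl rfl hm2 hml) hty
    exact ⟨⟨⟨l, hl, hn⟩, ⟨m, hm2, hml⟩⟩, rfl⟩

/-- Some pair is flipped by `t`. -/
theorem exists_swapped [Finite G] (hG : ¬ ∃ H : Subgroup G, H.index = 2) {κ : S7} (hκ : Inv2 κ)
    (hcnt : Nat.card {l : S7 // Inv2 l ∧ mv l = mv κ} *
      Nat.card {σ : S7 // σ * σ = 1 ∧ σ * κ = κ * σ} % 8 = 4) :
    ∃ u k, F.ty (mv κ) u k ∧ cj F.t u = u * k ∧ cj F.t k = k := by
  classical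
  let O := {p : G × G // F.ty (mv κ) p.1 p.2}
  let φ : G →* Perm O := MonoidHom.mk'
    (fun g => ⟨fun p => ⟨(cj g p.1.1, cj g p.1.2), F.ty_cj g p.2⟩,
      fun p => ⟨(cj g⁻¹ p.1.1, cj g⁻¹ p.1.2), F.ty_cj g⁻¹ p.2⟩,
      fun p => Subtype.ext (Prod.ext (cj_inv_cj _ _) (cj_inv_cj _ _)),
      fun p => Subtype.ext (Prod.ext (cj_cj_inv _ _) (cj_cj_inv _ _))⟩)
    fun a b => Equiv.ext fun p => Subtype.ext (Prod.ext (cj_cj _ _ _).symm (cj_cj _ _ _).symm)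
  let τ₀ : O → O := fun p => ⟨(p.1.1 * p.1.2, p.1.2), F.ty_mul_self hD p.2⟩
  have hτ₀ : ∀ p, τ₀ (τ₀ p) = p := fun p => Subtype.ext (Prod.ext
    (by show p.1.1 * p.1.2 * p.1.2 = _; rw [mul_assoc, (F.ty_sq p.2).1, mul_one]) rfl)
  let τ : Perm O := ⟨τ₀, τ₀, hτ₀, hτ₀⟩
  have hp := Tools.parity_pairs hG φ τ hτ₀
    (fun p e => (F.ty_sq p.2).2 (mul_eq_left.mp (congrArg (fun q : O => q.1.1) e)))
    (fun g p => Subtype.ext (Prod.ext (cj_mul _ _ _) rfl)) F.t_sq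
  have hO : 8 ∣ Nat.card O := by
    have e : Nat.card O = Nat.card {u : G // F.IsX u} * Nat.card {l : S7 // Inv2 l ∧ mv l = mv κ} := by
      haveI := Fintype.ofFinite {u : G // F.IsX u}
      let f : (Σ u : {u : G // F.IsX u}, {k : G // F.ty (mv κ) u.1 k}) → O :=
        fun p => ⟨(p.1.1, p.2.1), p.2.2⟩
      rw [← Nat.card_congr (Equiv.ofBijective f ⟨?_, ?_⟩), Nat.card_sigma,
        Finset.sum_congr rfl (fun u _ => F.ty_card (n := mv κ) u.2), Finset.sum_const, smul_eq_mul,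
        Finset.card_univ, Nat.card_eq_fintype_card (α := {u : G // F.IsX u})]
      · rintro ⟨⟨u, hu⟩, k, hk⟩ ⟨⟨u', hu'⟩, k', hk'⟩ h
        have h' := congrArg Subtype.val h
        simp only [f, Prod.mk.injEq] at h'
        obtain ⟨rfl, rfl⟩ := h'
        rfl
      · rintro ⟨⟨u, k⟩, h⟩
        exact ⟨⟨⟨u, F.ty_isX h⟩, k, h⟩, rfl⟩
    rw [e]
    exact (F.eight_dvd hD).mul_right _
  by_contra hno
  push Not at hno
  have e : Nat.card {o : O // φ F.t o = o ∨ φ F.t o = τ o} =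
      Nat.card {p : G × G // F.ty (mv κ) p.1 p.2 ∧ cj F.t p.1 = p.1 ∧ cj F.t p.2 = p.2} := by
    refine Nat.card_congr ((Equiv.subtypeEquivRight fun o => ?_).trans
      (Equiv.subtypeSubtypeEquivSubtypeInter (fun p : G × G => F.ty (mv κ) p.1 p.2)
        (fun p => cj F.t p.1 = p.1 ∧ cj F.t p.2 = p.2)))
    constructor
    · rintro (h | h)
      · exact ⟨congrArg (fun q : O => q.1.1) h, congrArg (fun q : O => q.1.2) h⟩
      · exact absurd (congrArg (fun q : O => q.1.2) h : cj F.t o.1.2 = o.1.2)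
          (hno o.1.1 o.1.2 o.2 (congrArg (fun q : O => q.1.1) h))
    · rintro ⟨h1, h2⟩
      exact Or.inl (Subtype.ext (Prod.ext h1 h2))
  rw [e, F.card_pairC hD hκ] at hp
  unfold Nat.ModEq at hp
  omega

omit hD in
theorem center_cA {c : S7} (hca : c * pA = pA * c)
    (h : ∀ σ, σ * pA = pA * σ → c * σ = σ * c) : c = 1 ∨ c = pA :=
  cent_cA hca (h s1 (by decide +kernel)) (h s2 (by decide +kernel)) (h s3 (by decide +kernel))
    (h s4 (by decide +kernel))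

omit hD in
theorem center_cT (c : S7) (h : ∀ σ, σ * pT = pT * σ → c * σ = σ * c) : c = 1 ∨ c = pT :=
  cent_cT (h pA (by decide +kernel)) (h pB (by decide +kernel)) (h pC (by decide +kernel))
    (h pE (by decide +kernel)) (h pE2 (by decide +kernel))

/-- An element `h⁻¹ t^i`, built from a conjugate `t₀` moving `t` to `t ι κ`, is again conjugate to
`t`. -/
theorem exists_v {t0 : G} {κ : S7} (hκ : Inv2 κ) (h4 : mv κ ≠ 4)
    (hcen : ∀ c, c * κ = κ * c → (∀ σ, σ * κ = κ * σ → c * σ = σ * c) → c = 1 ∨ c = κ)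
    (hX : F.IsX t0) (ht : cj t0 F.t = F.t * F.ι κ) (hfix : cj t0 (F.ι κ) = F.ι κ) :
    ∃ v c, F.IsX v ∧ c * c = 1 ∧ c * κ = κ * c ∧ v = t0 * F.ι c ∧ cj v F.t = F.t * F.ι κ ∧
      (∀ σ, σ * κ = κ * σ → v * F.ι σ = F.ι σ * v) ∧
      (∀ σ, σ * κ = κ * σ → t0 * F.ι σ = F.ι σ * t0 → c * σ = σ * c) := by
  obtain ⟨h, hh, hh'⟩ := F.exists_hc hD hκ h4
  have hκκ : F.ι κ * F.ι κ = 1 := by rw [← map_mul, hκ.1, map_one]
  have hgam : cj (h * t0) F.t = F.t := by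
    rw [← cj_cj, ht, cj_mul, hh, hh' κ rfl, mul_assoc, hκκ, mul_one]
  have hgamκ : cj (h * t0) (F.ι κ) = F.ι κ := by rw [← cj_cj, hfix, hh' κ rfl]
  have t02 := F.isX_sq hX
  obtain ⟨c, hc⟩ := F.split _ (cj_eq_iff.mp hgam)
  obtain ⟨γ, hγt, hγeq⟩ : ∃ γ, (γ = 1 ∨ γ = F.t) ∧ h * t0 = γ * F.ι c := by
    rcases hc with e | e
    · exact ⟨1, Or.inl rfl, by rw [one_mul, e]⟩
    · exact ⟨F.t, Or.inr rfl, e⟩
  have hγι : ∀ σ, cj γ (F.ι σ) = F.ι σ := by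
    intro σ
    rcases hγt with rfl | rfl
    · exact one_cj _
    · exact F.cj_t_ι σ
  have hcκ : c * κ = κ * c := by
    rw [hγeq, ← cj_cj, F.cj_ι, hγι] at hgamκ
    exact mul_inv_eq_iff_eq_mul.mp (F.inj hgamκ)
  have ht0 : t0 = h⁻¹ * γ * F.ι c := by rw [mul_assoc, ← hγeq, inv_mul_cancel_left]
  -- the conjugation by `t0` on `ι C(κ)`
  have act : ∀ σ, σ * κ = κ * σ → cj t0 (F.ι σ) = F.ι (c * σ * c⁻¹) := by
    intro σ hσ
    rw [ht0, ← cj_cj, ← cj_cj, F.cj_ι, hγι]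
    apply cj_symm
    apply hh'
    have h1 := (conj_comm_iff c σ κ).mpr hσ
    rwa [mul_mul_inv_comm hcκ] at h1
  set v := t0 * (F.ι c)⁻¹ with hv
  have hvι : ∀ σ, σ * κ = κ * σ → v * F.ι σ = F.ι σ * v := by
    intro σ hσ
    apply cj_eq_iff.mp
    have h1 : (c⁻¹ * σ * c⁻¹⁻¹) * κ = κ * (c⁻¹ * σ * c⁻¹⁻¹) := by
      rw [← conj_comm_iff c, show c * (c⁻¹ * σ * c⁻¹⁻¹) * c⁻¹ = σ by group, mul_mul_inv_comm hcκ]
      exact hσ
    rw [hv, ← cj_cj, ← map_inv, F.cj_ι, act _ h1]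
    congr 1; group
  have hvv : v * v = (F.ι c)⁻¹ * (F.ι c)⁻¹ := by
    have h1 := act c hcκ
    rw [mul_inv_cancel_right] at h1
    have h2 : t0 * (F.ι c)⁻¹ * t0⁻¹ = (F.ι c)⁻¹ := by
      rw [show t0 * (F.ι c)⁻¹ * t0⁻¹ = (cj t0 (F.ι c))⁻¹ by simp only [cj]; group, h1]
    rw [hv, show t0 * (F.ι c)⁻¹ * (t0 * (F.ι c)⁻¹) =
      t0 * (F.ι c)⁻¹ * t0⁻¹ * (t0 * t0) * (F.ι c)⁻¹ by group, h2, t02, mul_one]
  have hc2 : c * c = 1 := by
    rcases hcen (c * c) (by rw [mul_assoc, hcκ, ← mul_assoc, hcκ, mul_assoc]) (fun σ hσ => by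
      have h1 : Commute v (F.ι σ) := hvι σ hσ
      have h2 : v * v = F.ι (c * c)⁻¹ := by rw [hvv, map_inv, map_mul, mul_inv_rev]
      have h3 := h1.mul_left h1
      rw [h2, map_inv] at h3
      exact F.commute_iff_ι.mp (Commute.inv_left_iff.mp h3)) with e | e
    · exact e
    · exact absurd (by rw [← e]; exact sq_inv2 (e ▸ hκ)) h4
  have hcinv : (F.ι c)⁻¹ = F.ι c := by rw [← map_inv, inv_eq_of_mul_eq_one_right hc2]
  refine ⟨v, c, ?_, hc2, hcκ, by rw [hv, hcinv], ?_, hvι, ?_⟩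
  · by_cases hc1 : c = 1
    · rw [hv, hc1, map_one, inv_one, mul_one]; exact hX
    obtain ⟨g0, hg0⟩ := F.exists_cj hX
    obtain ⟨m, hm, em⟩ := F.exists_pull hD (g := g0) (x := F.ι c) (by
      rw [hg0]
      have h1 := act c hcκ
      rw [mul_inv_cancel_right] at h1
      exact (cj_eq_iff.mp h1).symm) (by rw [← map_mul, hc2, map_one])
      (fun e => hc1 (F.inj (by rw [e, map_one]))) (hD.hA c)
    rw [hv, hcinv, ← em, ← hg0, ← cj_mul, isX_cj]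
    exact hD.hB m hm.1
  · rw [hv, hcinv, ← cj_cj, F.cj_ι_t, ht]
  · intro σ hσ hσt
    have := act σ hσ
    rw [cj_of_comm hσt] at this
    exact (mul_inv_eq_iff_eq_mul.mp (F.inj this).symm)

/-- The elements `w`: a conjugate of `t` centralising `ι C(κ)` and moving `t` to `t ι κ`. -/
theorem exists_w [Finite G] (hG : ¬ ∃ H : Subgroup G, H.index = 2) {κ : S7} (hκ : Inv2 κ)
    (h4 : mv κ ≠ 4)
    (hcnt : Nat.card {l : S7 // Inv2 l ∧ mv l = mv κ} *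
      Nat.card {σ : S7 // σ * σ = 1 ∧ σ * κ = κ * σ} % 8 = 4)
    (hcen : ∀ c, c * κ = κ * c → (∀ σ, σ * κ = κ * σ → c * σ = σ * c) → c = 1 ∨ c = κ) :
    ∃ w, F.IsX w ∧ cj w F.t = F.t * F.ι κ ∧ ∀ σ, σ * κ = κ * σ → w * F.ι σ = F.ι σ * w := by
  obtain ⟨u, k, ⟨g, l, hl, hln, hgu, hgk⟩, htu, htk⟩ := F.exists_swapped hD hG hκ hcnt
  obtain ⟨c, hc⟩ := exists_conj hκ hl hln.symm
  have hgu' : cj (g * F.ι c) F.t = u := by rw [← cj_cj, F.cj_ι_t, hgu]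
  have hgk' : cj (g * F.ι c) (F.ι κ) = k := by rw [← cj_cj, F.cj_ι, hc, hgk]
  set g' := g * F.ι c
  have e : ∀ x, cj (cj g'⁻¹ F.t) x = cj g'⁻¹ (cj F.t (cj g' x)) := by
    intro x; simp only [cj]; group
  obtain ⟨v, -, hv, -, -, -, hvt, hvσ, -⟩ := F.exists_v hD hκ h4 hcen (t0 := cj g'⁻¹ F.t)
    (by rw [isX_cj]; exact F.isX_t)
    (by rw [e, hgu', htu, cj_mul, cj_symm hgu', cj_symm hgk'])
    (by rw [e, hgk', htk, cj_symm hgk'])
  exact ⟨v, hv, hvt, hvσ⟩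

end Cent

end Cfsg.Agent.Lib.InvCentS7
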