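/-
An involution with centraliser `Z₂ × S₇`: all `t ι l` are conjugate to `t`, no `ι l` is
(helper74, for S3147).  Third part: the two `w`s give a contradiction.
-/
import Cfsg.Agent.Lib.InvCentS7.DTwo

set_option autoImplicit false

namespace Cfsg.Agent.Lib.InvCentS7

open Equiv Enc

universe u

theorem tK_gens :
    (pA * pT = pT * pA ∧ pB * pT = pT * pB ∧ pC * pT = pT * pC ∧ pE * pT = pT * pE ∧
      pE2 * pT = pT * pE2) ∧
    (pB * pA = pA * pB ∧ pC * pA = pA * pC ∧ pE * pA = pA * pE ∧ pT * pA = pA * pT ∧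
      pZ * pA = pA * pZ) := by
  decide +kernel

namespace Cent

variable {G : Type u} [Group G] (F : Cent G)

theorem cj_mul_left (w : G) (x : G) (h : w * x = x * w) : cj w x = x := cj_of_comm h

theorem cent_tK_ι {x : G} (hx : x * F.t = F.t * x) (ha : x * F.ι pA = F.ι pA * x)
    (hb : x * F.ι pB = F.ι pB * x) (hc : x * F.ι pC = F.ι pC * x)
    (he : x * F.ι pE = F.ι pE * x) :
    ∃ m, (m = 1 ∨ m = pA ∨ m = pZ ∨ m = pT) ∧ (x = F.ι m ∨ x = F.t * F.ι m) := by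
  obtain ⟨m, rfl | rfl⟩ := F.split x hx
  · exact ⟨m, cent_tK (F.commute_iff_ι.mp ha) (F.commute_iff_ι.mp hb) (F.commute_iff_ι.mp hc)
      (F.commute_iff_ι.mp he), Or.inl rfl⟩
  · exact ⟨m, cent_tK (F.tmul_commute_iff.mp ha) (F.tmul_commute_iff.mp hb)
      (F.tmul_commute_iff.mp hc) (F.tmul_commute_iff.mp he), Or.inr rfl⟩

variable (hD : F.IsD)
include hD

/-- Two commuting conjugates of `t` multiply to a non-conjugate. -/
theorem ty_prod {u v : G} (hu : F.IsX u) (hv : F.IsX v) (hne : v ≠ u) (hc : v * u = u * v) :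
    ∃ n, F.ty n u (u * v) := by
  obtain ⟨g, rfl⟩ := F.exists_cj hu
  obtain ⟨l, hl | hl⟩ := F.split (cj g⁻¹ v) (by
    rw [← cj_comm_iff (g := g), cj_cj_inv]; exact hc)
  · have h1 : F.IsX (cj g⁻¹ v) := (F.isX_cj g⁻¹).mpr hv
    rw [hl] at h1
    exact absurd h1 (hD.hA l)
  have h1 : F.IsX (cj g⁻¹ v) := (F.isX_cj g⁻¹).mpr hv
  rw [hl] at h1
  have h2 : Inv2 l := by
    refine ⟨F.B_sq h1, fun e => hne ?_⟩
    rw [e, map_one, mul_one] at hl
    rw [← cj_cj_inv g v, hl]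
  refine ⟨mv l, g, l, h2, rfl, rfl, ?_⟩
  rw [← cj_cj_inv g v, hl, ← cj_mul, ← mul_assoc, F.t_sq, one_mul]

/-- `ι C(κ)` and `w` give `2|C(κ)|` elements centralising `w` and `ι κ`. -/
theorem centPair_ge [Finite G] {w : G} {κ : S7} (hw : F.IsX w)
    (hwσ : ∀ σ, σ * κ = κ * σ → w * F.ι σ = F.ι σ * w) :
    ∃ f : Bool × {σ : S7 // σ * κ = κ * σ} → {g : G // g * w = w * g ∧ g * F.ι κ = F.ι κ * g},
      Function.Injective f ∧ ∀ p, (f p : G) = if p.1 then w * F.ι p.2.1 else F.ι p.2.1 := by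
  refine ⟨fun p => ⟨if p.1 then w * F.ι p.2.1 else F.ι p.2.1, ?_⟩, ?_, fun _ => rfl⟩
  · obtain ⟨i, σ, hσ⟩ := p
    have h1 : Commute w (F.ι σ) := hwσ σ hσ
    have h2 : Commute (F.ι σ) (F.ι κ) := F.commute_iff_ι.mpr hσ
    have h3 : Commute w (F.ι κ) := hwσ κ rfl
    cases i
    · exact ⟨h1.symm, h2⟩
    · exact ⟨(Commute.refl w).mul_left h1.symm, h3.mul_left h2⟩
  · rintro ⟨i, σ⟩ ⟨j, τ⟩ h
    have h' := congrArg Subtype.val h
    have hne : ∀ a b : S7, w * F.ι a ≠ F.ι b := fun a b e => hD.hA (b * a⁻¹) (by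
      rw [map_mul, ← e, map_inv, mul_inv_cancel_right]; exact hw)
    cases i <;> cases j <;> simp only [Bool.false_eq_true, if_false, if_true] at h'
    · exact Prod.ext rfl (Subtype.ext (F.inj h'))
    · exact absurd h'.symm (hne _ _)
    · exact absurd h' (hne _ _)
    · exact Prod.ext rfl (Subtype.ext (F.inj (mul_left_cancel h')))

omit hD in
theorem card_bool_cent {κ : S7} (hκ : Inv2 κ) :
    Nat.card (Bool × {σ : S7 // σ * κ = κ * σ}) = if mv κ = 2 then 480 else 96 := by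
  rw [Nat.card_prod, card_cent_mv hκ]
  split_ifs <;> simp

/-- The frame at `w`. -/
theorem frame_w [Finite G] {w : G} (hw : F.IsX w)
    (hwσ : ∀ σ, σ * pA = pA * σ → w * F.ι σ = F.ι σ * w) :
    (∃ β, (β = pB ∨ β = pA * pB) ∧ F.ty 2 w (F.ι pA) ∧ F.ty 4 w (F.ι pZ) ∧ F.ty 6 w (F.ι pT) ∧
      F.ty 2 w (F.ι β)) ∧
    ∀ x, x * w = w * x → x * F.ι pA = F.ι pA * x → x * F.ι pB = F.ι pB * x →
      x * F.ι pC = F.ι pC * x → x * F.ι pE = F.ι pE * x →
      ∃ m, (m = 1 ∨ m = pA ∨ m = pZ ∨ m = pT) ∧ (x = F.ι m ∨ x = w * F.ι m) := by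
  obtain ⟨g0, hg0⟩ := F.exists_cj hw
  obtain ⟨m, hm, em⟩ := F.pull_ι hD (g := g0) inv2_pA
    (by rw [hg0]; exact (hwσ pA rfl).symm)
  obtain ⟨f, hf, -⟩ := F.centPair_ge hD hw hwσ
  have hcard := Nat.card_le_card_of_injective f hf
  rw [card_bool_cent inv2_pA, if_pos mv_pA] at hcard
  have hcp : centPair w (F.ι pA) = if mv m = 2 then 480 else 96 :=
    F.centPair_ty ⟨g0, m, hm, rfl, hg0, em⟩
  have hm2 : mv m = 2 := by
    by_contra h
    rw [if_neg h, centPair] at hcp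
    omega
  obtain ⟨c, hc⟩ := exists_conj inv2_pA hm (by rw [mv_pA, hm2])
  have hgA : cj (g0 * F.ι c) (F.ι pA) = F.ι pA := by rw [← cj_cj, F.cj_ι, hc, em]
  have hgt : cj (g0 * F.ι c) F.t = w := by rw [← cj_cj, F.cj_ι_t, hg0]
  obtain ⟨g, hgt', hga, hcase⟩ := F.adjA hD hgA (fun x _ hx => by
    rw [hgt]; exact (hwσ x hx).symm)
  rw [hgt] at hgt'
  have hz : cj g (F.ι pZ) = F.ι pZ := by
    rcases hcase with h | ⟨hb, hc, -⟩
    · exact h pZ tK_gens.2.2.2.2.2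
    · rw [pZ, map_mul, cj_mul, hb, hc, ← map_mul, ← map_mul]
      exact congrArg F.ι (by decide +kernel)
  have hT : cj g (F.ι pT) = F.ι pT := by rw [pT, map_mul, cj_mul, hga, hz]
  obtain ⟨β, hβ, hβe⟩ : ∃ β, (β = pB ∨ β = pA * pB) ∧ cj g (F.ι pB) = F.ι β := by
    rcases hcase with h | ⟨hb, -, -⟩
    · exact ⟨pB, Or.inl rfl, h pB tK_gens.2.1⟩
    · exact ⟨pA * pB, Or.inr rfl, hb⟩
  refine ⟨⟨β, hβ, ⟨g, pA, inv2_pA, mv_pA, hgt', hga⟩, ⟨g, pZ, inv2_pZ, mv_pZ, hgt', hz⟩,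
    ⟨g, pT, inv2_pT, mv_pT, hgt', hT⟩, ⟨g, pB, inv2_pB, mv_pB, hgt', hβe⟩⟩, ?_⟩
  intro x hxw hxa hxb hxc hxe
  have pull : ∀ {σ : S7}, x * F.ι σ = F.ι σ * x → ∀ τ, cj g (F.ι τ) = F.ι σ →
      cj g⁻¹ x * F.ι τ = F.ι τ * cj g⁻¹ x := by
    intro σ h τ hτ
    rw [← cj_comm_iff (g := g), cj_cj_inv, hτ]; exact h
  have hxt : cj g⁻¹ x * F.t = F.t * cj g⁻¹ x := by
    rw [← cj_comm_iff (g := g), cj_cj_inv, hgt']; exact hxw
  have hae : cj g (F.ι pE) = F.ι pE := by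
    rcases hcase with h | ⟨-, -, he⟩
    · exact h pE tK_gens.2.2.2.1
    · exact he
  have mulA : ∀ {σ : S7}, x * F.ι σ = F.ι σ * x → x * F.ι (pA * σ) = F.ι (pA * σ) * x := by
    intro σ h
    rw [map_mul, ← mul_assoc, hxa, mul_assoc, h, mul_assoc]
  obtain ⟨hb', hc'⟩ : cj g⁻¹ x * F.ι pB = F.ι pB * cj g⁻¹ x ∧
      cj g⁻¹ x * F.ι pC = F.ι pC * cj g⁻¹ x := by
    rcases hcase with h | ⟨hb, hc, -⟩
    · exact ⟨pull hxb pB (h pB tK_gens.2.1), pull hxc pC (h pC tK_gens.2.2.1)⟩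
    · exact ⟨pull (mulA hxb) pB hb, pull (mulA hxc) pC hc⟩
  obtain ⟨n, hn, e⟩ := F.cent_tK_ι hxt (pull hxa pA hga) hb' hc' (pull hxe pE hae)
  have hfix : cj g (F.ι n) = F.ι n := by
    rcases hn with rfl | rfl | rfl | rfl
    · rw [map_one, cj_one]
    · exact hga
    · exact hz
    · exact hT
  refine ⟨n, hn, ?_⟩
  rcases e with e | e
  · exact Or.inl (by rw [← cj_cj_inv g x, e, hfix])
  · exact Or.inr (by rw [← cj_cj_inv g x, e, cj_mul, hgt', hfix])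

/-- The frame at `w'`. -/
theorem frame_w' [Finite G] {w : G} (hw : F.IsX w) (hwt : cj w F.t = F.t * F.ι pT)
    (hwσ : ∀ σ, σ * pT = pT * σ → w * F.ι σ = F.ι σ * w) :
    (∃ ε, (ε = pE ∨ ε = pA * pE) ∧ F.ty 2 w (F.ι pA) ∧ F.ty 4 w (F.ι pZ) ∧ F.ty 6 w (F.ι pT) ∧
      F.ty 6 w (F.ι ε)) ∧
    ∀ x, x * w = w * x → x * F.ι pA = F.ι pA * x → x * F.ι pB = F.ι pB * x →
      x * F.ι pC = F.ι pC * x → x * F.ι pE = F.ι pE * x →
      ∃ m, (m = 1 ∨ m = pA ∨ m = pZ ∨ m = pT) ∧ (x = F.ι m ∨ x = w * F.ι m) := by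
  obtain ⟨g0, hg0⟩ := F.exists_cj hw
  obtain ⟨m, hm, em⟩ := F.pull_ι hD (g := g0) inv2_pT
    (by rw [hg0]; exact (hwσ pT rfl).symm)
  obtain ⟨f, hf, hfval⟩ := F.centPair_ge hD hw hwσ
  have hcp : centPair w (F.ι pT) = if mv m = 2 then 480 else 96 :=
    F.centPair_ty ⟨g0, m, hm, rfl, hg0, em⟩
  have hTT : F.ι pT * F.ι pT = 1 := by rw [← map_mul, inv2_pT.1, map_one]
  -- not of type 4
  have hm4 : mv m ≠ 4 := by
    intro h4
    rw [if_neg (by omega), centPair] at hcp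
    have hbij : Function.Bijective f := (Nat.bijective_iff_injective_and_card f).mpr
      ⟨hf, by rw [card_bool_cent inv2_pT, if_neg (by rw [mv_pT]; decide), hcp]⟩
    obtain ⟨r, hr⟩ := exists_sqrt hm h4
    have hxw : cj g0 (F.ι r) * w = w * cj g0 (F.ι r) := by
      rw [← hg0, cj_comm_iff]; exact F.comm r
    have hxx : cj g0 (F.ι r) * cj g0 (F.ι r) = F.ι pT := by
      rw [← cj_mul, ← map_mul, hr, em]
    obtain ⟨p, hp⟩ := hbij.2 ⟨cj g0 (F.ι r), hxw, by rw [← hxx, mul_assoc]⟩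
    have hp' := congrArg Subtype.val hp
    rw [hfval] at hp'
    have hσσ : F.ι (p.2.1 * p.2.1) = F.ι pT := by
      rw [← hxx]
      show F.ι (p.2.1 * p.2.1) = _
      simp only at hp'
      rw [← hp', map_mul]
      split_ifs
      · rw [mul_assoc w, ← mul_assoc (F.ι p.2.1) w, ← hwσ _ p.2.2, ← mul_assoc, ← mul_assoc,
          F.isX_sq hw, one_mul]
      · rfl
    have := sq_inv2 (σ := p.2.1) (by rw [F.inj hσσ]; exact inv2_pT)
    rw [F.inj hσσ, mv_pT] at this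
    omega
  -- not of type 2
  have hm2 : mv m ≠ 2 := by
    intro h2
    obtain ⟨c0, hc0⟩ := exists_conj inv2_pA hm (by rw [mv_pA, h2])
    set g := g0 * F.ι c0 with hg
    have hgA : cj g (F.ι pA) = F.ι pT := by rw [hg, ← cj_cj, F.cj_ι, hc0, em]
    have hgt : cj g F.t = w := by rw [hg, ← cj_cj, F.cj_ι_t, hg0]
    have htw : cj F.t w = w * F.ι pT := by
      have h1 : w * F.t * w⁻¹ = F.t * F.ι pT := hwt
      rw [F.isX_inv hw] at h1
      show F.t * w * F.t⁻¹ = _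
      rw [F.t_inv]
      calc F.t * w * F.t = (w * w) * (F.t * w * F.t) := by rw [F.isX_sq hw, one_mul]
        _ = w * ((w * F.t * w) * F.t) := by group
        _ = w * F.ι pT := by
          rw [h1, mul_assoc F.t, F.comm, ← mul_assoc F.t, F.t_sq, one_mul]
    have e : ∀ x, cj (cj g⁻¹ F.t) x = cj g⁻¹ (cj F.t (cj g x)) := by
      intro x; simp only [cj]; group
    obtain ⟨v, c, -, hc2, hcA, hvc, -, hvσ, hcσ⟩ := F.exists_v hD inv2_pA (by rw [mv_pA]; decide)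
      (fun c h1 h2 => center_cA h1 h2) (t0 := cj g⁻¹ F.t)
      ((F.isX_cj _).mpr F.isX_t)
      (by rw [e, hgt, htw, cj_mul, cj_symm hgt, cj_symm hgA])
      (by rw [e, hgA, F.cj_t_ι, cj_symm hgA])
    -- the preimages of `ι C(pT)`
    have hpre : ∀ τ, τ * pT = pT * τ → ∃ σ, cj g (F.ι σ) = F.ι τ := by
      intro τ hτ
      let R : Subgroup S7 := ((MulAut.conj g).toMonoidHom.comp F.ι).range.comap F.ι
      have gen : ∀ r, Inv2 r → r * pT = pT * r → r ∈ R := by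
        intro r hr hrT
        obtain ⟨q, -, eq⟩ := F.pull_ι hD (g := g) hr (by rw [hgt]; exact (hwσ r hrT).symm)
        exact ⟨q, eq⟩
      obtain ⟨⟨h1, h2, h3, h4, h5⟩, -⟩ := tK_gens
      obtain ⟨σ, hσ⟩ := closure_cT (gen _ inv2_pA h1) (gen _ inv2_pB h2) (gen _ inv2_pC h3)
        (gen _ inv2_pE h4) (gen _ inv2_pE2 h5) hτ
      exact ⟨σ, hσ⟩
    choose pre hpre' using hpre
    have hpreA : ∀ τ (h : τ * pT = pT * τ), pre τ h * pA = pA * pre τ h := by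
      intro τ h
      rw [← F.commute_iff_ι, ← cj_comm_iff (g := g), hpre', hgA, F.commute_iff_ι]
      exact h
    have hcA' : c = 1 ∨ c = pA := by
      by_cases hc1 : c = 1
      · exact Or.inl hc1
      refine Or.inr ?_
      by_contra hne
      have hlt := small_cent (c := c) ⟨hc2, hc1⟩ hcA hne
      let φ : {τ : S7 // τ * pT = pT * τ} → {σ : S7 // σ * pA = pA * σ ∧ σ * c = c * σ} :=
        fun τ => ⟨pre τ.1 τ.2, hpreA _ τ.2, by
          refine (hcσ _ (hpreA _ τ.2) ?_).symm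
          rw [← cj_comm_iff (g := g), cj_cj_inv, hpre']
          exact (F.comm τ.1).symm⟩
      have := Nat.card_le_card_of_injective φ (fun a b h => Subtype.ext (F.inj (by
        rw [← hpre' a.1 a.2, ← hpre' b.1 b.2,
          show pre a.1 a.2 = pre b.1 b.2 from congrArg Subtype.val h])))
      rw [card_cent_pT] at this
      omega
    have hcc : ∀ σ, σ * pA = pA * σ → c * σ = σ * c := by
      intro σ hσ
      rcases hcA' with rfl | rfl
      · simp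
      · exact hσ.symm
    have ht0 : ∀ σ, σ * pA = pA * σ → Commute (cj g⁻¹ F.t) (F.ι σ) := by
      intro σ hσ
      have e1 : cj g⁻¹ F.t = v * F.ι c := by
        rw [hvc, mul_assoc, ← map_mul, hc2, map_one, mul_one]
      rw [e1]
      exact (show Commute v (F.ι σ) from hvσ σ hσ).mul_left
        (show Commute (F.ι c) (F.ι σ) from F.commute_iff_ι.mpr (hcc σ hσ))
    let ψ : {σ : S7 // σ * pA = pA * σ} → {x : G // x * F.t = F.t * x ∧ x * F.ι pT = F.ι pT * x} :=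
      fun σ => ⟨cj g (F.ι σ.1), by
        constructor
        · rw [← cj_cj_inv g F.t, cj_comm_iff]; exact (ht0 _ σ.2).symm
        · rw [← hgA, cj_comm_iff]; exact F.commute_iff_ι.mpr σ.2⟩
    have := Nat.card_le_card_of_injective ψ
      (fun a b h => Subtype.ext (F.inj (cj_inj (congrArg Subtype.val h))))
    rw [card_cent_pA] at this
    have h96 := F.centPair_ι pT
    rw [card_cent_pT, centPair] at h96
    omega
  have hm6 : mv m = 6 := by rcases mv_of_inv2 hm with h | h | h <;> omega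
  obtain ⟨c, hc⟩ := exists_conj inv2_pT hm (by rw [mv_pT, hm6])
  have hgT : cj (g0 * F.ι c) (F.ι pT) = F.ι pT := by rw [← cj_cj, F.cj_ι, hc, em]
  have hgt : cj (g0 * F.ι c) F.t = w := by rw [← cj_cj, F.cj_ι_t, hg0]
  obtain ⟨g, hgt', hga, hgb, hgc, hcase⟩ := F.adjT hD hgT (fun x _ hx => by
    rw [hgt]; exact (hwσ x hx).symm)
  rw [hgt] at hgt'
  have hz : cj g (F.ι pZ) = F.ι pZ := by rw [pZ, map_mul, cj_mul, hgb, hgc]
  have hT : cj g (F.ι pT) = F.ι pT := by rw [pT, map_mul, cj_mul, hga, hz]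
  obtain ⟨hge, ε, hε, l, hl, hl6, hle⟩ : (cj g (F.ι pE) = F.ι pE ∨
      cj g (F.ι pE) = F.ι (pT * pE)) ∧ ∃ ε, (ε = pE ∨ ε = pA * pE) ∧
        ∃ l, Inv2 l ∧ mv l = 6 ∧ cj g (F.ι l) = F.ι ε := by
    rcases hcase with h | h
    · refine ⟨Or.inl (h pE tK_gens.1.2.2.2.1), pA * pE, Or.inr rfl, pA * pE,
        by rw [inv2_iff]; decide +kernel, by decide +kernel, h _ (by decide +kernel)⟩
    · refine ⟨Or.inr h, pE, Or.inl rfl, pA * pE * pZ, by rw [inv2_iff]; decide +kernel,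
        by decide +kernel, ?_⟩
      rw [map_mul, map_mul, cj_mul, cj_mul, hga, h, hz, ← map_mul, ← map_mul]
      exact congrArg F.ι (by decide +kernel)
  refine ⟨⟨ε, hε, ⟨g, pA, inv2_pA, mv_pA, hgt', hga⟩, ⟨g, pZ, inv2_pZ, mv_pZ, hgt', hz⟩,
    ⟨g, pT, inv2_pT, mv_pT, hgt', hT⟩, ⟨g, l, hl, hl6, hgt', hle⟩⟩, ?_⟩
  intro x hxw hxa hxb hxc hxe
  have pull : ∀ {σ : S7}, x * F.ι σ = F.ι σ * x → ∀ τ, cj g (F.ι τ) = F.ι σ →
      cj g⁻¹ x * F.ι τ = F.ι τ * cj g⁻¹ x := by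
    intro σ h τ hτ
    rw [← cj_comm_iff (g := g), cj_cj_inv, hτ]; exact h
  have hxt : cj g⁻¹ x * F.t = F.t * cj g⁻¹ x := by
    rw [← cj_comm_iff (g := g), cj_cj_inv, hgt']; exact hxw
  have he' : cj g⁻¹ x * F.ι pE = F.ι pE * cj g⁻¹ x := by
    rcases hge with h | h
    · exact pull hxe pE h
    · refine pull ?_ pE h
      have h1 : Commute x (F.ι pA) := hxa
      have h2 : Commute x (F.ι pB) := hxb
      have h3 : Commute x (F.ι pC) := hxc
      have h4 : Commute x (F.ι pE) := hxe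
      show Commute x (F.ι (pT * pE))
      rw [pT, pZ, map_mul, map_mul, map_mul]
      exact (h1.mul_right (h2.mul_right h3)).mul_right h4
  obtain ⟨n, hn, e⟩ := F.cent_tK_ι hxt (pull hxa pA hga) (pull hxb pB hgb) (pull hxc pC hgc) he'
  have hfix : cj g (F.ι n) = F.ι n := by
    rcases hn with rfl | rfl | rfl | rfl
    · rw [map_one, cj_one]
    · exact hga
    · exact hz
    · exact hT
  refine ⟨n, hn, ?_⟩
  rcases e with e | e
  · exact Or.inl (by rw [← cj_cj_inv g x, e, hfix])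
  · exact Or.inr (by rw [← cj_cj_inv g x, e, cj_mul, hgt', hfix])

/-- Types of products seen from a frame. -/
theorem frame_fp {P : G} {β x : S7} {ξ : G} {n n1 n2 : ℕ}
    (hA : F.ty 2 P (F.ι pA)) (hZ : F.ty 4 P (F.ι pZ)) (hT : F.ty 6 P (F.ι pT))
    (hβ : F.ty n P (F.ι β)) (hx : x = β) (hβA : β * pA = pA * β) (hβZ : β * pZ = pZ * β)
    (hξ : F.ty n1 P ξ) (hξA' : F.ty n2 P (ξ * F.ι pA)) (hξA : ξ * F.ι pA = F.ι pA * ξ)
    (hξZ : ξ * F.ι pZ = F.ι pZ * ξ) (hne : ξ * F.ι x ≠ F.ι x * ξ) :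
    (n = 2 → n1 ≠ 2 ∧ n2 ≠ 2 ∧ ¬(n1 = 4 ∧ n2 = 4)) ∧ (n = 6 → n1 ≠ 6 ∧ n2 ≠ 6) := by
  subst x
  obtain ⟨g, hg⟩ := F.exists_cj (F.ty_isX hA)
  have pullty : ∀ {k : G} {j : ℕ}, F.ty j P k →
      ∃ q, Inv2 q ∧ mv q = j ∧ cj g (F.ι q) = k := by
    intro k j h
    rw [← hg, ← cj_cj_inv g k, F.ty_cj_iff] at h
    obtain ⟨q, hq, hj, e⟩ := F.ty_t_elim h
    exact ⟨q, hq, hj, by rw [← e, cj_cj_inv]⟩
  obtain ⟨A', a1, a2, a3⟩ := pullty hA
  obtain ⟨Z', z1, z2, z3⟩ := pullty hZ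
  obtain ⟨T', t1, t2, t3⟩ := pullty hT
  obtain ⟨B', b1, b2, b3⟩ := pullty hβ
  obtain ⟨X', x1, x2, x3⟩ := pullty hξ
  obtain ⟨Y', y1, y2, y3⟩ := pullty hξA'
  have hT' : A' * Z' = T' := by
    apply F.inj; apply cj_inj (g := g)
    rw [map_mul, cj_mul, a3, z3, t3, ← map_mul]
    rfl
  have hY' : X' * A' = Y' := by
    apply F.inj; apply cj_inj (g := g)
    rw [map_mul, cj_mul, x3, a3, y3]
  have comm : ∀ {p q : S7} {a b : G}, cj g (F.ι p) = a → cj g (F.ι q) = b → a * b = b * a →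
      p * q = q * p := by
    intro p q a b ha hb h
    rw [← ha, ← hb, cj_comm_iff, F.commute_iff_ι] at h
    exact h
  have h := fp a1 a2 z1 (comm z3 a3 (F.commute_iff_ι.mpr tK_gens.2.2.2.2.2)) z2
    (by rw [hT', t2]) b1 (comm b3 a3 (F.commute_iff_ι.mpr hβA))
    (comm b3 z3 (F.commute_iff_ι.mpr hβZ)) x1 (comm x3 a3 hξA) (comm x3 z3 hξZ)
    (fun e => hne (by rw [← x3, ← b3, cj_comm_iff, F.commute_iff_ι]; exact e))
  rw [b2, x2, hY', y2] at h
  exact h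

/-- The final contradiction in the case `D`. -/
theorem no_D [Finite G] (hG : ¬ ∃ H : Subgroup G, H.index = 2) : False := by
  obtain ⟨w, hw, hwt, hwσ⟩ := F.exists_w hD hG inv2_pA (by rw [mv_pA]; decide)
    (by rw [mv_pA, card_class_two, card_sqOne_comm_pA]) (fun c h1 h2 => center_cA h1 h2)
  obtain ⟨w', hw', hwt', hwσ'⟩ := F.exists_w hD hG inv2_pT (by rw [mv_pT]; decide)
    (by rw [mv_pT, card_class_six, card_sqOne_comm_pT]) (fun c _ h2 => center_cT c h2)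
  obtain ⟨⟨β, hβ, wA, wZ, wT, wβ⟩, centw⟩ := F.frame_w hD hw hwσ
  obtain ⟨⟨ε, hε, vA, vZ, vT, vε⟩, centw'⟩ := F.frame_w' hD hw' hwt' hwσ'
  obtain ⟨⟨aT, bT, cT, eT, -⟩, bA, cA, eA, tA, zA⟩ := tK_gens
  have zT : pZ * pT = pT * pZ := by decide +kernel
  have hww : w * w = 1 := F.isX_sq hw
  have hww' : w' * w' = 1 := F.isX_sq hw'
  have comm_t : ∀ σ, cj F.t (F.ι σ) = F.ι σ := F.cj_t_ι
  -- `δ = (w w')²` is `z`
  have hwT : cj w (F.t * F.ι pT) = F.t * F.ι pZ := by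
    rw [cj_mul, hwt, cj_of_comm (hwσ pT tA), mul_assoc, ← map_mul]
    exact congrArg (fun x => F.t * F.ι x) (by decide +kernel)
  have hw'Z : cj w' (F.t * F.ι pZ) = F.t * F.ι pA := by
    rw [cj_mul, hwt', cj_of_comm (hwσ' pZ zT), mul_assoc, ← map_mul]
    exact congrArg (fun x => F.t * F.ι x) (by decide +kernel)
  have hwA : cj w (F.t * F.ι pA) = F.t := by
    rw [cj_mul, hwt, cj_of_comm (hwσ pA rfl), mul_assoc, ← map_mul, inv2_pA.1, map_one, mul_one]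
  set δ := w * w' * (w * w') with hδ
  have hδt : cj δ F.t = F.t := by
    rw [hδ, ← cj_cj, ← cj_cj, ← cj_cj, hwt', hwT, hw'Z, hwA]
  have cw : ∀ σ, σ * pA = pA * σ → σ * pT = pT * σ → Commute (w * w') (F.ι σ) := fun σ h1 h2 =>
    (show Commute w (F.ι σ) from hwσ σ h1).mul_left (show Commute w' (F.ι σ) from hwσ' σ h2)
  have hδι : ∀ σ, σ * pA = pA * σ → σ * pT = pT * σ → δ * F.ι σ = F.ι σ * δ := fun σ h1 h2 =>
    ((cw σ h1 h2).mul_left (cw σ h1 h2)).eq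
  obtain ⟨l, hl, hδl⟩ := F.cent_tK_ι (cj_eq_iff.mp hδt) (hδι pA rfl aT) (hδι pB bA bT)
    (hδι pC cA cT) (hδι pE eA eT)
  have hl2 : l * l = 1 := by
    rcases hl with rfl | rfl | rfl | rfl
    · simp
    · exact inv2_pA.1
    · exact inv2_pZ.1
    · exact inv2_pT.1
  have hlA : l * pA = pA * l := by
    rcases hl with rfl | rfl | rfl | rfl
    · simp
    · rfl
    · exact zA
    · exact tA
  have hδ2 : δ * δ = 1 := by
    rcases hδl with e | e
    · rw [e, ← map_mul, hl2, map_one]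
    · rw [e, F.tmul_tmul, hl2, map_one]
  have hδl' : δ = F.ι l := by
    rcases hδl with e | e
    · exact e
    exfalso
    have h1 : cj w δ = δ := by
      have h2 : cj w δ = δ⁻¹ := by
        rw [hδ, cj, F.isX_inv hw, mul_inv_rev, mul_inv_rev, F.isX_inv hw, F.isX_inv hw']
        calc w * (w * w' * (w * w')) * w = (w * w) * (w' * w) * (w' * w) := by group
          _ = w' * w * (w' * w) := by rw [hww, one_mul]
      rw [h2, inv_eq_of_mul_eq_one_right hδ2]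
    rw [e, cj_mul, hwt, cj_of_comm (hwσ l hlA), mul_assoc, ← map_mul] at h1
    exact inv2_pA.2 (mul_eq_right.mp (F.tmul_inj h1))
  -- how an element of `C(w) ∩ C(ι T_K)` acts on `t`
  have act : ∀ {v : G} {κ : S7}, cj v F.t = F.t * F.ι κ → ∀ {x : G},
      (∃ m, (m = 1 ∨ m = pA ∨ m = pZ ∨ m = pT) ∧ (x = F.ι m ∨ x = v * F.ι m)) →
      cj x F.t = F.t ∨ cj x F.t = F.t * F.ι κ := by
    rintro v κ hv x ⟨m, -, rfl | rfl⟩
    · exact Or.inl (F.cj_ι_t m)
    · exact Or.inr (by rw [← cj_cj, F.cj_ι_t, hv])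
  have hne1 : ∀ {a b : S7}, a ≠ b → F.t * F.ι a ≠ F.t * F.ι b := fun h e => h (F.tmul_inj e)
  have hne0 : ∀ {a : S7}, a ≠ 1 → F.t * F.ι a ≠ F.t := fun h e =>
    hne1 h (e.trans (by rw [map_one, mul_one]))
  have tι : ∀ σ, Commute F.t (F.ι σ) := fun σ => (F.comm σ).symm
  have hAT : pA ≠ pT := by decide +kernel
  have w'w : w' * w * w' = w * δ := by
    calc w' * w * w' = (w * w) * (w' * w * w') := by rw [hww, one_mul]
      _ = w * δ := by rw [hδ]; group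
  have ww'w : w * w' * w = δ * w' := by
    rw [hδ, mul_assoc (w * w'), mul_assoc w w' w', hww', mul_one]
  have hlz : l = pZ := by
    rcases hl with rfl | rfl | rfl | rfl
    · exfalso
      rw [map_one] at hδl'
      rw [hδl', mul_one] at w'w
      have hc : w' * w = w * w' := by
        calc w' * w = w' * w * w' * w' := by rw [mul_assoc _ w' w', hww', mul_one]
          _ = w * w' := by rw [w'w]
      rcases act hwt (centw w' hc (hwσ' pA aT) (hwσ' pB bT) (hwσ' pC cT) (hwσ' pE eT)) with h | h <;>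
        rw [hwt'] at h
      · exact hne0 inv2_pT.2 h
      · exact hne1 hAT h.symm
    · exfalso
      have e1 : cj (F.t * w') w = w := by
        rw [← cj_cj, show cj w' w = w * δ by rw [cj, F.isX_inv hw', w'w], hδl', cj_mul, comm_t,
          cj, F.t_inv]
        have h1 : w * F.t * w⁻¹ = F.t * F.ι pA := hwt
        rw [F.isX_inv hw] at h1
        calc F.t * w * F.t * F.ι pA = (w * w) * (F.t * w * F.t) * F.ι pA := by
              rw [hww, one_mul]
          _ = w * (w * F.t * w) * F.t * F.ι pA := by group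
          _ = w := by
            rw [h1, mul_assoc w, mul_assoc F.t, F.comm, ← mul_assoc F.t, F.t_sq, one_mul,
              mul_assoc, ← map_mul, inv2_pA.1, map_one, mul_one]
      rcases act hwt (centw (F.t * w') (cj_eq_iff.mp e1) ((tι pA).mul_left (hwσ' pA aT))
          ((tι pB).mul_left (hwσ' pB bT)) ((tι pC).mul_left (hwσ' pC cT))
          ((tι pE).mul_left (hwσ' pE eT))) with h | h <;>
        rw [← cj_cj, hwt', cj_mul, comm_t, cj_of_comm rfl] at h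
      · exact hne0 inv2_pT.2 h
      · exact hne1 hAT h.symm
    · rfl
    · exfalso
      have e1 : cj (F.t * w) w' = w' := by
        rw [← cj_cj, show cj w w' = δ * w' by rw [cj, F.isX_inv hw, ww'w], hδl', cj_mul, comm_t,
          cj, F.t_inv]
        have h1 : w' * F.t * w'⁻¹ = F.t * F.ι pT := hwt'
        rw [F.isX_inv hw'] at h1
        calc F.ι pT * (F.t * w' * F.t) = F.ι pT * (F.t * w' * F.t * (w' * w')) := by
              rw [hww', mul_one]
          _ = F.ι pT * (F.t * (w' * F.t * w') * w') := by group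
          _ = w' := by
            rw [h1, ← mul_assoc F.t, F.t_sq, one_mul, ← mul_assoc, ← map_mul, inv2_pT.1, map_one,
              one_mul]
      rcases act hwt' (centw' (F.t * w) (cj_eq_iff.mp e1) ((tι pA).mul_left (hwσ pA rfl))
          ((tι pB).mul_left (hwσ pB bA)) ((tι pC).mul_left (hwσ pC cA))
          ((tι pE).mul_left (hwσ pE eA))) with h | h <;>
        rw [← cj_cj, hwt, cj_mul, comm_t, cj_of_comm rfl] at h
      · exact hne0 inv2_pA.2 h
      · exact hne1 hAT h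
  subst hlz
  -- the final configuration
  obtain ⟨hβ2, hβA, hβT, hβZ, hβεT, hεA, hεT, hεZ, hεβ, hconjβ, hconjε⟩ :
      Inv2 β ∧ β * pA = pA * β ∧ β * pT = pT * β ∧ β * pZ = pZ * β ∧
      (β * ε * β⁻¹) * pT = pT * (β * ε * β⁻¹) ∧
      ε * pA = pA * ε ∧ ε * pT = pT * ε ∧ ε * pZ = pZ * ε ∧ ε * β = β * ε * pZ ∧
      β * (ε * β * ε⁻¹) * β⁻¹ ≠ β ∧ β * ε * β⁻¹ ≠ ε := by
    rcases hβ with rfl | rfl <;> rcases hε with rfl | rfl <;>
      (refine ⟨?_, ?_, ?_, ?_, ?_, ?_, ?_, ?_, ?_, ?_, ?_⟩ <;>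
        (try rw [inv2_iff]) <;> decide +kernel)
  set P := w * F.ι β with hP
  set Q := w' * F.ι ε with hQ
  have cβ' : Commute (F.ι β) w' := (show Commute w' (F.ι β) from hwσ' β hβT).symm
  have cε : Commute (F.ι ε) w := (show Commute w (F.ι ε) from hwσ ε hεA).symm
  have PA : F.ty 2 P (F.ι pA) := F.ty_mul hD wβ wA (F.commute_iff_ι.mpr hβA)
  have PZ : F.ty 4 P (F.ι pZ) := F.ty_mul hD wβ wZ (F.commute_iff_ι.mpr hβZ)
  have PT : F.ty 6 P (F.ι pT) := F.ty_mul hD wβ wT (F.commute_iff_ι.mpr hβT)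
  have Pβ : F.ty 2 P (F.ι β) := F.ty_mul hD wβ wβ rfl
  have QA : F.ty 2 Q (F.ι pA) := F.ty_mul hD vε vA (F.commute_iff_ι.mpr hεA)
  have QZ : F.ty 4 Q (F.ι pZ) := F.ty_mul hD vε vZ (F.commute_iff_ι.mpr hεZ)
  have QT : F.ty 6 Q (F.ι pT) := F.ty_mul hD vε vT (F.commute_iff_ι.mpr hεT)
  have Qε : F.ty 6 Q (F.ι ε) := F.ty_mul hD vε vε rfl
  have hPX : F.IsX P := F.ty_isX PA
  have hQX : F.IsX Q := F.ty_isX QA
  have hPQ : Q * P = P * Q := by
    have h1 : w' * w = w * w' * F.ι pZ := by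
      rw [← hδl', hδ, ← mul_assoc (w * w'), ← mul_assoc (w * w'), mul_assoc (w * w' * w)]
      calc w' * w = (w * w) * (w' * w) := by rw [hww, one_mul]
        _ = _ := by
          have h2 : δ⁻¹ = δ := inv_eq_of_mul_eq_one_right hδ2
          rw [hδ, mul_inv_rev, mul_inv_rev, F.isX_inv hw, F.isX_inv hw'] at h2
          calc w * w * (w' * w) = w * w' * (w * w' * (w * w') * 1) := by
                rw [← h2, mul_one]
                calc w * w * (w' * w) = w' * w := by rw [hww, one_mul]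
                  _ = (w * w') * (w' * w) * (w' * w) := by
                    rw [mul_assoc w w', ← mul_assoc w' w', hww', one_mul, hww, one_mul]
                  _ = _ := by group
            _ = _ := by rw [mul_one]; group
    calc Q * P = w' * (F.ι ε * w) * F.ι β := by rw [hP, hQ]; simp only [mul_assoc]
      _ = w' * w * F.ι (ε * β) := by rw [cε.eq, map_mul]; simp only [mul_assoc]
      _ = w * w' * F.ι (pZ * (ε * β)) := by rw [h1, map_mul F.ι pZ, mul_assoc _ (F.ι pZ)]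
      _ = w * w' * F.ι (β * ε) := by
        rw [hεβ]
        have : pZ * (β * ε * pZ) = β * ε := by
          rw [← mul_assoc pZ, ← mul_assoc pZ, ← hβZ, mul_assoc β pZ, ← hεZ, mul_assoc, mul_assoc,
            inv2_pZ.1, mul_one]
        rw [this]
      _ = P * Q := by
        rw [hP, hQ, map_mul]
        calc w * w' * (F.ι β * F.ι ε) = w * (w' * F.ι β) * F.ι ε := by simp only [mul_assoc]
          _ = _ := by rw [← cβ'.eq]; simp only [mul_assoc]
  have hξcomm : ∀ σ, σ * pA = pA * σ → σ * pT = pT * σ → β * σ = σ * β → ε * σ = σ * ε →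
      P * Q * F.ι σ = F.ι σ * (P * Q) := by
    intro σ h1 h2 h3 h4
    exact (((show Commute w (F.ι σ) from hwσ σ h1).mul_left (F.commute_iff_ι.mpr h3)).mul_left
      ((show Commute w' (F.ι σ) from hwσ' σ h2).mul_left (F.commute_iff_ι.mpr h4))).eq
  have hξA := hξcomm pA rfl aT hβA hεA
  have hξZ := hξcomm pZ zA zT hβZ hεZ
  have hξβ : P * Q * F.ι β ≠ F.ι β * (P * Q) := by
    intro e
    have h1 := cj_of_comm e
    have hconjA : (ε * β * ε⁻¹) * pA = pA * (ε * β * ε⁻¹) := by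
      have := (conj_comm_iff ε β pA).mpr hβA
      rwa [mul_mul_inv_comm hεA] at this
    have hconjT : (ε * β * ε⁻¹) * pT = pT * (ε * β * ε⁻¹) := by
      have := (conj_comm_iff ε β pT).mpr hβT
      rwa [mul_mul_inv_comm hεT] at this
    have hconjA' : (β * (ε * β * ε⁻¹) * β⁻¹) * pA = pA * (β * (ε * β * ε⁻¹) * β⁻¹) := by
      have := (conj_comm_iff β (ε * β * ε⁻¹) pA).mpr hconjA
      rwa [mul_mul_inv_comm hβA] at this
    rw [hP, hQ, ← cj_cj, ← cj_cj, ← cj_cj, F.cj_ι, cj_of_comm (hwσ' _ hconjT), F.cj_ι,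
      cj_of_comm (hwσ _ hconjA')] at h1
    exact hconjβ (F.inj h1)
  have hξε : P * Q * F.ι ε ≠ F.ι ε * (P * Q) := by
    intro e
    have h1 := cj_of_comm e
    have hconjA : (β * ε * β⁻¹) * pA = pA * (β * ε * β⁻¹) := by
      have := (conj_comm_iff β ε pA).mpr hεA
      rwa [mul_mul_inv_comm hβA] at this
    rw [hP, hQ, ← cj_cj, ← cj_cj, ← cj_cj, F.cj_ι, mul_inv_cancel_right,
      cj_of_comm (hwσ' _ hεT), F.cj_ι, cj_of_comm (hwσ _ hconjA)] at h1
    exact hconjε (F.inj h1)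
  have hPne : Q ≠ P := fun e => hξβ (by rw [e, F.isX_sq hPX]; simp)
  obtain ⟨n1, hn1⟩ := F.ty_prod hD hPX hQX hPne hPQ
  -- `Q a` is conjugate to `t`
  have hQAX : F.IsX (Q * F.ι pA) := F.ty_isX (F.ty_mul_self hD QA)
  have hQA : Q * F.ι pA * P = P * (Q * F.ι pA) := by
    rw [mul_assoc, F.ty_comm PA, ← mul_assoc, hPQ, mul_assoc]
  have hQAne : Q * F.ι pA ≠ P := by
    intro e
    have h1 : P * Q = F.ι pA := by
      rw [← hPQ, ← e, ← mul_assoc, F.isX_sq hQX, one_mul]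
    exact hξβ (by rw [h1]; exact F.commute_iff_ι.mpr hβA.symm)
  obtain ⟨n2, hn2⟩ := F.ty_prod hD hPX hQAX hQAne hQA
  rw [← mul_assoc] at hn2
  obtain ⟨r1, -⟩ := F.frame_fp hD PA PZ PT Pβ rfl hβA hβZ hn1 hn2 hξA hξZ hξβ
  obtain ⟨r2, r3, r4⟩ := r1 rfl
  have hn1Q : F.ty n1 Q (P * Q) := by
    have h := F.ty_mul_self hD hn1
    rwa [← mul_assoc, F.isX_sq hPX, one_mul] at h
  have hn2QA : F.ty n2 (Q * F.ι pA) (P * Q * F.ι pA) := by
    have h := F.ty_mul_self hD hn2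
    rwa [mul_assoc P Q, ← mul_assoc P P, F.isX_sq hPX, one_mul, ← mul_assoc P Q] at h
  have hn2Q : F.ty n2 Q (P * Q * F.ι pA) := by
    have h := F.ty_mul hD (F.ty_mul_self hD QA) hn2QA (by
      rw [← mul_assoc, ← hξA])
    rwa [mul_assoc Q, ← map_mul, inv2_pA.1, map_one, mul_one] at h
  obtain ⟨-, r5⟩ := F.frame_fp hD QA QZ QT Qε rfl hεA hεZ hn1Q hn2Q hξA hξZ hξε
  obtain ⟨r6, r7⟩ := r5 rfl
  have mem : ∀ {n : ℕ} {u k : G}, F.ty n u k → n = 2 ∨ n = 4 ∨ n = 6 := by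
    rintro n u k ⟨g, q, hq, hn, -, -⟩
    rw [← hn]; exact mv_of_inv2 hq
  rcases mem hn1 with h1 | h1 | h1 <;> rcases mem hn2 with h2 | h2 | h2 <;> omega

end Cent

end Cfsg.Agent.Lib.InvCentS7
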