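/-
An involution with centraliser `Z₂ × S₇` forces a subgroup of index two (helper74, for S3147).
-/
import Cfsg.Agent.Lib.InvCentS7.DThree

set_option autoImplicit false

namespace Cfsg.Agent.Lib.InvCentS7

open Equiv Enc

universe u

namespace Cent

variable {G : Type u} [Group G] (F : Cent G)

theorem isD_of (hA2 : ¬ F.IsX (F.ι pA)) (hA4 : ¬ F.IsX (F.ι pZ)) (hA6 : ¬ F.IsX (F.ι pT))
    (hB2 : F.IsX (F.t * F.ι pA)) (hB4 : F.IsX (F.t * F.ι pZ)) (hB6 : F.IsX (F.t * F.ι pT)) :
    F.IsD where
  hA l h := by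
    have hl := F.A_inv2 h
    rcases mv_of_inv2 hl with e | e | e
    · exact hA2 ((F.A_class hl inv2_pA (by rw [e, mv_pA])).mp h)
    · exact hA4 ((F.A_class hl inv2_pZ (by rw [e, mv_pZ])).mp h)
    · exact hA6 ((F.A_class hl inv2_pT (by rw [e, mv_pT])).mp h)
  hB l h := by
    by_cases h1 : l = 1
    · rw [h1, map_one, mul_one]; exact F.isX_t
    have hl : Inv2 l := ⟨h, h1⟩
    rcases mv_of_inv2 hl with e | e | e
    · exact (F.B_class hl inv2_pA (by rw [e, mv_pA])).mpr hB2
    · exact (F.B_class hl inv2_pZ (by rw [e, mv_pZ])).mpr hB4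
    · exact (F.B_class hl inv2_pT (by rw [e, mv_pT])).mpr hB6

include F in
/-- A finite group with a `Cent` setting has a subgroup of index two. -/
theorem exists_index_two [Finite G] : ∃ H : Subgroup G, H.index = 2 := by
  by_contra hG
  have hev := F.not_odd hG
  obtain ⟨h4, hA, hB, -⟩ := F.even_case hG hev
  have hz := F.not_IsX_z hG hev
  by_cases h2 : F.IsX (F.ι pA) <;> by_cases h2' : F.IsX (F.t * F.ι pA)
  · exact F.no_six hG h2 h2'
  · have eA : F.twist.ι pA = F.t * F.ι pA := F.twist_odd inv2_pA (by rw [mv_pA]; decide)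
    have eT : F.twist.ι pT = F.t * F.ι pT := F.twist_odd inv2_pT (by rw [mv_pT]; decide)
    have eZ : F.twist.ι pZ = F.ι pZ := F.twist_even inv2_pZ mv_pZ
    refine F.twist.no_D ?_ hG
    refine F.twist.isD_of ?_ ?_ ?_ ?_ ?_ ?_
    · rw [eA]; exact h2'
    · rw [eZ]; exact hz
    · rw [eT]; exact fun h => h2' (hB.mpr h)
    · show F.IsX (F.t * F.twist.ι pA)
      rw [eA, ← mul_assoc, F.t_sq, one_mul]; exact h2
    · show F.IsX (F.t * F.twist.ι pZ)
      rw [eZ]; exact h4
    · show F.IsX (F.t * F.twist.ι pT)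
      rw [eT, ← mul_assoc, F.t_sq, one_mul]; exact hA.mp h2
  · exact F.no_D (F.isD_of h2 hz (fun h => h2 (hA.mpr h)) h2' h4 (hB.mp h2')) hG
  · exact F.no_m0 hG h2 h2'

end Cent

/-- The centraliser of an involution being `Z₂ × S₇` gives a `Cent` setting. -/
theorem exists_cent {G : Type u} [Group G] (t : G) (ht : orderOf t = 2)
    (e : ↥(Subgroup.centralizer ({t} : Set G)) ≃* Multiplicative (ZMod 2) × S7) :
    Nonempty (Cent G) := by
  have ht2 : t * t = 1 := by rw [← sq, ← ht]; exact pow_orderOf_eq_one t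
  have ht1 : t ≠ 1 := fun h => by rw [h, orderOf_one] at ht; omega
  set t' : Subgroup.centralizer ({t} : Set G) :=
    ⟨t, Subgroup.mem_centralizer_singleton_iff.mpr rfl⟩
  have ht' : ∀ x, t' * x = x * t' := fun x =>
    Subtype.ext (Subgroup.mem_centralizer_singleton_iff.mp x.2).symm
  have hz : ∀ σ : S7, (e t').2 * σ = σ * (e t').2 := by
    intro σ
    have := congrArg e (ht' (e.symm (1, σ)))
    rw [map_mul, map_mul, MulEquiv.apply_symm_apply] at this
    exact congrArg Prod.snd this
  have h1 : (e t').2 = 1 := center_trivial hz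
  have h0 : (e t').1 ≠ 1 := by
    intro h
    apply ht1
    have : e t' = e 1 := by rw [map_one]; exact Prod.ext h h1
    exact congrArg Subtype.val (e.injective this)
  have htwo : ∀ i : Multiplicative (ZMod 2), i = 1 ∨ i = (e t').1 := by
    intro i
    revert h0
    generalize (e t').1 = j
    revert i j
    decide
  refine ⟨{
    t := t
    ι := (Subgroup.subtype _).comp (e.symm.toMonoidHom.comp (MonoidHom.inr _ _))
    t_sq := ht2
    t_ne := ht1
    inj := fun l m h => ?_
    comm := fun l => Subgroup.mem_centralizer_singleton_iff.mp (e.symm (1, l)).2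
    split := fun g hg => ?_
    t_not := fun l h => ?_ }⟩
  · have := e.symm.injective (Subtype.ext h : e.symm (1, l) = e.symm (1, m))
    exact congrArg Prod.snd this
  · set g' : Subgroup.centralizer ({t} : Set G) :=
      ⟨g, Subgroup.mem_centralizer_singleton_iff.mpr hg⟩
    refine ⟨(e g').2, ?_⟩
    rcases htwo (e g').1 with h | h
    · left
      show g = ((e.symm (1, (e g').2) : Subgroup.centralizer ({t} : Set G)) : G)
      rw [← h, Prod.mk.eta, MulEquiv.symm_apply_apply]
    · right
      show g = (t' : G) * ((e.symm (1, (e g').2) : Subgroup.centralizer ({t} : Set G)) : G)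
      rw [← Subgroup.coe_mul]
      show (g' : G) = _
      refine congrArg Subtype.val ?_
      apply e.injective
      rw [map_mul, MulEquiv.apply_symm_apply]
      exact Prod.ext (by rw [Prod.fst_mul, mul_one]; exact h) (by rw [Prod.snd_mul, h1, one_mul])
  · have : e.symm (1, l) = t' := Subtype.ext h
    apply h0
    rw [← this, MulEquiv.apply_symm_apply]

end Cfsg.Agent.Lib.InvCentS7
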